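import Cfsg.Agent.H97.CliffAct
import Cfsg.Prelude.Def_GeometricClasses
import Cfsg.Agent.ClassicalGeometry.SympBasic

/-!
# The elements `(1 + t i t j)(1 + t k t l) / 2` of the normaliser
-/

set_option autoImplicit false
set_option linter.unusedSectionVars false

namespace Cfsg.Agent.H97.Cliff

open Cfsg Cfsg.Geo Matrix Cfsg.Agent.ClassicalGeometry.SympBasic
open scoped commutatorElement

section ring

variable {ι : Type} [Fintype ι] [DecidableEq ι] {F : Type*} [Field F]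

theorem val_sq {u : GL ι F} (hu : u * u = -1) : (u : Matrix ι ι F) * u = -1 := by
  rw [← Units.val_mul, hu]; rfl

/-- `(1 + u)(1 + v) / 2` -/
def e2 (h2 : (2 : F) ≠ 0) {u v : GL ι F} (hu : u * u = -1) (hv : v * v = -1) : GL ι F where
  val := (2 : F)⁻¹ • ((1 + (u : Matrix ι ι F)) * (1 + (v : Matrix ι ι F)))
  inv := (2 : F)⁻¹ • ((1 - (v : Matrix ι ι F)) * (1 - (u : Matrix ι ι F)))
  val_inv := by
    have h1 := val_sq hu
    have h3 := val_sq hv
    have e : (1 + (u : Matrix ι ι F)) * (1 + (v : Matrix ι ι F)) *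
        ((1 - (v : Matrix ι ι F)) * (1 - (u : Matrix ι ι F))) = (4 : F) • 1 := by
      have e1 : (1 + (v : Matrix ι ι F)) * (1 - (v : Matrix ι ι F)) = (2 : F) • 1 := by
        rw [mul_sub, mul_one, add_mul, one_mul, h3, two_smul]
        abel
      have e2 : (1 + (u : Matrix ι ι F)) * (1 - (u : Matrix ι ι F)) = (2 : F) • 1 := by
        rw [mul_sub, mul_one, add_mul, one_mul, h1, two_smul]
        abel
      rw [mul_assoc, ← mul_assoc (1 + (v : Matrix ι ι F)), e1, Matrix.smul_mul, one_mul,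
        Matrix.mul_smul, e2, smul_smul]
      norm_num
    rw [Matrix.smul_mul, Matrix.mul_smul, e, smul_smul, smul_smul]
    have : (2 : F)⁻¹ * (2 : F)⁻¹ * 4 = 1 := by
      field_simp
      norm_num
    rw [this, one_smul]
  inv_val := by
    have h1 := val_sq hu
    have h3 := val_sq hv
    have e : (1 - (v : Matrix ι ι F)) * (1 - (u : Matrix ι ι F)) *
        ((1 + (u : Matrix ι ι F)) * (1 + (v : Matrix ι ι F))) = (4 : F) • 1 := by
      have e1 : (1 - (v : Matrix ι ι F)) * (1 + (v : Matrix ι ι F)) = (2 : F) • 1 := by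
        rw [mul_add, mul_one, sub_mul, one_mul, h3, two_smul]
        abel
      have e2 : (1 - (u : Matrix ι ι F)) * (1 + (u : Matrix ι ι F)) = (2 : F) • 1 := by
        rw [mul_add, mul_one, sub_mul, one_mul, h1, two_smul]
        abel
      rw [mul_assoc, ← mul_assoc (1 - (u : Matrix ι ι F)), e2, Matrix.smul_mul, one_mul,
        Matrix.mul_smul, e1, smul_smul]
      norm_num
    rw [Matrix.smul_mul, Matrix.mul_smul, e, smul_smul, smul_smul]
    have : (2 : F)⁻¹ * (2 : F)⁻¹ * 4 = 1 := by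
      field_simp
      norm_num
    rw [this, one_smul]

/-- `(1 + u) x = w (1 + u)` -/
def Step (u x w : GL ι F) : Prop :=
  (1 + (u : Matrix ι ι F)) * (x : Matrix ι ι F) = (w : Matrix ι ι F) * (1 + (u : Matrix ι ι F))

theorem Step.comm {u x : GL ι F} (h : u * x = x * u) : Step u x x := by
  have h1 : (u : Matrix ι ι F) * x = x * u := by rw [← Units.val_mul, h]; rfl
  rw [Step, add_mul, mul_add, h1, one_mul, mul_one]

theorem Step.anti {u x : GL ι F} (hu : u * u = -1) (h : u * x = -(x * u)) : Step u x (u * x) := by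
  have h1 : (u : Matrix ι ι F) * x = -(x * u) := by rw [← Units.val_mul, h]; rfl
  have h3 : (x : Matrix ι ι F) * u = - (u * x) := by rw [h1, neg_neg]
  rw [Step, add_mul, mul_add, Units.val_mul, one_mul, mul_one, mul_assoc, h3, mul_neg, ← mul_assoc,
    val_sq hu]
  simp only [neg_mul, one_mul, neg_neg]
  abel

theorem e2_mul (h2 : (2 : F) ≠ 0) {u v : GL ι F} (hu : u * u = -1) (hv : v * v = -1)
    {x w w' : GL ι F} (h : Step v x w) (h' : Step u w w') :
    e2 h2 hu hv * x * (e2 h2 hu hv)⁻¹ = w' := by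
  rw [mul_inv_eq_iff_eq_mul]
  apply Units.ext
  rw [Units.val_mul, Units.val_mul]
  change (2 : F)⁻¹ • ((1 + (u : Matrix ι ι F)) * (1 + (v : Matrix ι ι F))) * (x : Matrix ι ι F) =
    (w' : Matrix ι ι F) * ((2 : F)⁻¹ • ((1 + (u : Matrix ι ι F)) * (1 + (v : Matrix ι ι F))))
  rw [Step] at h h'
  rw [Matrix.smul_mul, Matrix.mul_smul, mul_assoc, h, ← mul_assoc, h', mul_assoc]

end ring

section symp

variable {m : ℕ} {F : Type*} [Field F]

theorem form_one_add {u : GL (Fin m ⊕ Fin m) F} (hu : u * u = -1) (hus : u ∈ spGL m F)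
    (x y : Fin m ⊕ Fin m → F) :
    sympForm m F ((1 + (u : Matrix (Fin m ⊕ Fin m) (Fin m ⊕ Fin m) F)) *ᵥ x)
      ((1 + (u : Matrix (Fin m ⊕ Fin m) (Fin m ⊕ Fin m) F)) *ᵥ y) = 2 * sympForm m F x y := by
  have h1 : ∀ x y, sympForm m F ((u : Matrix (Fin m ⊕ Fin m) (Fin m ⊕ Fin m) F) *ᵥ x)
      ((u : Matrix (Fin m ⊕ Fin m) (Fin m ⊕ Fin m) F) *ᵥ y) = sympForm m F x y := fun x y => hus x y
  have h3 := h1 ((u : Matrix (Fin m ⊕ Fin m) (Fin m ⊕ Fin m) F) *ᵥ x) y
  rw [Matrix.mulVec_mulVec, val_sq hu, Matrix.neg_mulVec, Matrix.one_mulVec, sympForm_neg_left] at h3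
  rw [Matrix.add_mulVec, Matrix.add_mulVec, Matrix.one_mulVec, Matrix.one_mulVec, sympForm_add_left,
    sympForm_add_right, sympForm_add_right, h1]
  linear_combination -h3

theorem e2_mem (h2 : (2 : F) ≠ 0) {u v : GL (Fin m ⊕ Fin m) F} (hu : u * u = -1) (hv : v * v = -1)
    (hus : u ∈ spGL m F) (hvs : v ∈ spGL m F) : e2 h2 hu hv ∈ spGL m F := by
  have he : ∀ x : Fin m ⊕ Fin m → F, glToMat (Fin m ⊕ Fin m) F (e2 h2 hu hv) *ᵥ x =
      (2 : F)⁻¹ • ((1 + (u : Matrix (Fin m ⊕ Fin m) (Fin m ⊕ Fin m) F)) *ᵥ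
      ((1 + (v : Matrix (Fin m ⊕ Fin m) (Fin m ⊕ Fin m) F)) *ᵥ x)) := by
    intro x
    have h1 : glToMat (Fin m ⊕ Fin m) F (e2 h2 hu hv) =
      (2 : F)⁻¹ • ((1 + (u : Matrix (Fin m ⊕ Fin m) (Fin m ⊕ Fin m) F)) *
      (1 + (v : Matrix (Fin m ⊕ Fin m) (Fin m ⊕ Fin m) F))) := rfl
    rw [h1, Matrix.smul_mulVec, ← Matrix.mulVec_mulVec]
  intro x y
  rw [he, he, sympForm_smul_left, sympForm_smul_right, form_one_add hu hus, form_one_add hv hvs]
  field_simp

end symp

/-! ### Action on a frame -/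

section frame

variable {ι : Type} [Fintype ι] [DecidableEq ι] {F : Type*} [Field F] {R : Subgroup (GL ι F)}
  {t : Fin 5 → GL ι F}

theorem Frame.tt_sq (fr : Frame R t) {i j : Fin 5} (hij : i ≠ j) : (t i * t j) * (t i * t j) = -1 := by
  rw [mul_assoc, ← mul_assoc (t j), fr.anti j i hij.symm, neg_mul, mul_neg, mul_assoc, fr.sq, mul_one,
    fr.sq]

theorem Frame.step_left (fr : Frame R t) {i j : Fin 5} (hij : i ≠ j) :
    Step (t i * t j) (t i) (-(t j)) := by
  have h1 : (t i * t j) * t i = -t j := by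
    rw [mul_assoc, fr.anti j i hij.symm, mul_neg, ← mul_assoc, fr.sq, one_mul]
  have h3 : t i * (t i * t j) = t j := by rw [← mul_assoc, fr.sq, one_mul]
  have := Step.anti (fr.tt_sq hij) (x := t i) (by rw [h1, h3])
  rwa [h1] at this

theorem Frame.step_right (fr : Frame R t) {i j : Fin 5} (hij : i ≠ j) :
    Step (t i * t j) (t j) (t i) := by
  have h1 : (t i * t j) * t j = t i := by rw [mul_assoc, fr.sq, mul_one]
  have h3 : t j * (t i * t j) = -t i := by
    rw [← mul_assoc, fr.anti j i hij.symm, neg_mul, mul_assoc, fr.sq, mul_one]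
  have := Step.anti (fr.tt_sq hij) (x := t j) (by rw [h1, h3, neg_neg])
  rwa [h1] at this

theorem Frame.step_other (fr : Frame R t) {i j k : Fin 5} (hik : k ≠ i) (hjk : k ≠ j) :
    Step (t i * t j) (t k) (t k) := by
  apply Step.comm
  rw [mul_assoc, fr.anti j k hjk.symm, mul_neg, ← mul_assoc, fr.anti i k hik.symm, neg_mul, neg_neg,
    mul_assoc]

theorem Step.neg {u x w : GL ι F} (h : Step u x w) : Step u (-x) (-w) := by
  rw [Step, Units.val_neg, Units.val_neg, mul_neg, neg_mul]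
  exact congrArg (fun z => -z) h

theorem Frame.step (fr : Frame R t) {i j : Fin 5} (hij : i ≠ j) (k : Fin 5) :
    ∃ w, Step (t i * t j) (t k) w ∧ Pm w (t (Equiv.swap i j k)) := by
  by_cases h1 : k = i
  · subst h1
    exact ⟨_, fr.step_left hij, by rw [Equiv.swap_apply_left]; exact Or.inr rfl⟩
  · by_cases h3 : k = j
    · subst h3
      exact ⟨_, fr.step_right hij, by rw [Equiv.swap_apply_right]; exact Or.inl rfl⟩
    · exact ⟨_, fr.step_other h1 h3, by rw [Equiv.swap_apply_of_ne_of_ne h1 h3]; exact Or.inl rfl⟩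

theorem Frame.step_pm (fr : Frame R t) {i j : Fin 5} (hij : i ≠ j) {k : Fin 5} {x : GL ι F}
    (hx : Pm x (t k)) : ∃ w, Step (t i * t j) x w ∧ Pm w (t (Equiv.swap i j k)) := by
  obtain ⟨w, h1, h3⟩ := fr.step hij k
  rcases hx with rfl | rfl
  · exact ⟨w, h1, h3⟩
  · refine ⟨-w, h1.neg, ?_⟩
    exact Pm.trans (Or.inr rfl) h3

theorem Frame.e2_conj (fr : Frame R t) (h2 : (2 : F) ≠ 0) {i j k l : Fin 5} (hij : i ≠ j) (hkl : k ≠ l)
    (n : Fin 5) : Pm (e2 h2 (fr.tt_sq hij) (fr.tt_sq hkl) * t n * (e2 h2 (fr.tt_sq hij) (fr.tt_sq hkl))⁻¹)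
      (t ((Equiv.swap i j * Equiv.swap k l) n)) := by
  obtain ⟨w, h1, h3⟩ := fr.step hkl n
  obtain ⟨w', h4, h5⟩ := fr.step_pm hij h3
  rw [e2_mul h2 _ _ h1 h4]
  exact h5

/-- steps preserve `R` -/
theorem Base.step (B : Base R) {u : GL ι F} (huR : u ∈ R) (hu : u * u = -1) {x : GL ι F} (hx : x ∈ R) :
    ∃ w ∈ R, Step u x w := by
  rcases B.comm u huR x hx with h | h
  · exact ⟨x, hx, Step.comm h⟩
  · exact ⟨u * x, R.mul_mem huR hx, Step.anti hu h⟩

theorem Base.e2_norm (B : Base R) (h2 : (2 : F) ≠ 0) {u v : GL ι F} (hu : u * u = -1) (hv : v * v = -1)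
    (huR : u ∈ R) (hvR : v ∈ R) : ∀ x ∈ R, e2 h2 hu hv * x * (e2 h2 hu hv)⁻¹ ∈ R := by
  intro x hx
  obtain ⟨w, hw, h1⟩ := B.step hvR hv hx
  obtain ⟨w', hw', h3⟩ := B.step huR hu hw
  rw [e2_mul h2 hu hv h1 h3]
  exact hw'

end frame

theorem mem_normalizer_of {G : Type*} [Group G] {R : Subgroup G} [Finite R] {g : G}
    (h : ∀ x ∈ R, g * x * g⁻¹ ∈ R) : g ∈ Subgroup.normalizer (R : Set G) := by
  rw [Subgroup.mem_normalizer_iff]
  intro x
  refine ⟨h x, fun hx => ?_⟩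
  let f : R → R := fun y => ⟨g * y * g⁻¹, h y y.2⟩
  have hf : Function.Injective f := by
    intro a b hab
    have h1 := congrArg Subtype.val hab
    apply Subtype.ext
    have h3 : g * (a : G) * g⁻¹ = g * (b : G) * g⁻¹ := h1
    exact mul_left_cancel (mul_right_cancel h3)
  obtain ⟨y, hy⟩ := (Finite.injective_iff_surjective.1 hf) ⟨_, hx⟩
  have h1 : g * (y : G) * g⁻¹ = g * x * g⁻¹ := congrArg Subtype.val hy
  have h3 : (y : G) = x := mul_left_cancel (mul_right_cancel h1)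
  rw [← h3]
  exact y.2

/-- products of two transpositions generate the alternating group. -/
theorem alternating_le {K : Subgroup (Equiv.Perm (Fin 5))}
    (h : ∀ i j k l : Fin 5, i ≠ j → k ≠ l → Equiv.swap i j * Equiv.swap k l ∈ K) :
    alternatingGroup (Fin 5) ≤ K := by
  rw [← Equiv.Perm.closure_three_cycles_eq_alternating, Subgroup.closure_le]
  intro σ hσ
  have h1 : IsConj (Equiv.swap (0 : Fin 5) 1 * Equiv.swap 0 2) σ := by
    rw [Equiv.Perm.isConj_iff_cycleType_eq]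
    have h3 : (Equiv.swap (0 : Fin 5) 1 * Equiv.swap 0 2).IsThreeCycle :=
      Equiv.Perm.isThreeCycle_swap_mul_swap_same (by decide) (by decide) (by decide)
    rw [h3.cycleType]
    exact (Equiv.Perm.IsThreeCycle.cycleType hσ).symm
  obtain ⟨c, hc⟩ := isConj_iff.1 h1
  rw [← hc]
  have h3 : c * (Equiv.swap (0 : Fin 5) 1 * Equiv.swap 0 2) * c⁻¹ =
      Equiv.swap (c 0) (c 1) * Equiv.swap (c 0) (c 2) := by
    rw [Equiv.swap_apply_apply, Equiv.swap_apply_apply]
    group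
  rw [h3]
  exact h _ _ _ _ (fun h => absurd (c.injective h) (by decide))
    (fun h => absurd (c.injective h) (by decide))

end Cfsg.Agent.H97.Cliff
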