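import Mathlib

/-!
# `PSL₂` in odd characteristic has no elementary abelian subgroup of order eight
-/

set_option autoImplicit false

namespace Cfsg.Agent.H97.NoE8

variable {F : Type*} [Field F]

theorem sq_cases (h2 : (2 : F) ≠ 0) {X : Matrix.SpecialLinearGroup (Fin 2) F}
    (hX : X * X ∈ Subgroup.center (Matrix.SpecialLinearGroup (Fin 2) F)) :
    X ∈ Subgroup.center (Matrix.SpecialLinearGroup (Fin 2) F) ∨ X * X = -1 := by
  obtain ⟨r, hr, hrX⟩ := Matrix.SpecialLinearGroup.mem_center_iff.1 hX
  rw [Fintype.card_fin] at hr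
  have hr' : r = 1 ∨ r = -1 := by
    have h : (r - 1) * (r + 1) = 0 := by linear_combination hr
    rcases mul_eq_zero.1 h with h | h
    · exact Or.inl (sub_eq_zero.1 h)
    · exact Or.inr (eq_neg_of_add_eq_zero_left h)
  rcases hr' with rfl | rfl
  · left
    -- `X² = 1`
    have hdet : (X : Matrix (Fin 2) (Fin 2) F) 0 0 * (X : Matrix (Fin 2) (Fin 2) F) 1 1 -
        (X : Matrix (Fin 2) (Fin 2) F) 0 1 * (X : Matrix (Fin 2) (Fin 2) F) 1 0 = 1 := by
      have := X.2
      rwa [Matrix.det_fin_two] at this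
    have h1 : (X : Matrix (Fin 2) (Fin 2) F) * X = 1 := by
      have : ((X * X : Matrix.SpecialLinearGroup (Fin 2) F) : Matrix (Fin 2) (Fin 2) F) = 1 := by
        rw [← hrX]; simp
      rwa [Matrix.SpecialLinearGroup.coe_mul] at this
    have e00 := congrFun (congrFun h1 0) 0
    have e01 := congrFun (congrFun h1 0) 1
    have e10 := congrFun (congrFun h1 1) 0
    have e11 := congrFun (congrFun h1 1) 1
    simp only [Matrix.mul_apply, Fin.sum_univ_two, Matrix.one_apply_eq, Matrix.one_apply, Fin.isValue,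
      zero_ne_one, one_ne_zero, if_false] at e00 e01 e10 e11
    set a := (X : Matrix (Fin 2) (Fin 2) F) 0 0 with ha
    set b := (X : Matrix (Fin 2) (Fin 2) F) 0 1 with hb
    set c := (X : Matrix (Fin 2) (Fin 2) F) 1 0 with hc
    set d := (X : Matrix (Fin 2) (Fin 2) F) 1 1 with hd
    have h3 : a * (a + d) = 2 := by linear_combination e00 + hdet
    have h4 : a + d ≠ 0 := by
      intro h0
      rw [h0, mul_zero] at h3
      exact h2 h3.symm
    have hb0 : b = 0 := by
      have : b * (a + d) = 0 := by linear_combination e01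
      exact (mul_eq_zero.1 this).resolve_right h4
    have hc0 : c = 0 := by
      have : c * (a + d) = 0 := by linear_combination e10
      exact (mul_eq_zero.1 this).resolve_right h4
    have had : a = d := by
      have h5 : (a - d) * (a + d) = 0 := by linear_combination e00 - e11
      exact sub_eq_zero.1 ((mul_eq_zero.1 h5).resolve_right h4)
    rw [Matrix.SpecialLinearGroup.mem_center_iff]
    refine ⟨a, ?_, ?_⟩
    · rw [Fintype.card_fin]
      rw [hb0] at e00
      linear_combination e00
    · ext i j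
      fin_cases i <;> fin_cases j
      · simp [ha]
      · simpa [hb] using hb0.symm
      · simpa [hc] using hc0.symm
      · simpa [hd] using had
  · right
    apply Subtype.ext
    rw [← hrX]
    ext i j
    fin_cases i <;> fin_cases j <;> simp [Matrix.scalar_apply]

/-- **No elementary abelian subgroup of order eight.** -/
theorem card_le_four (h2 : (2 : F) ≠ 0) (E : Subgroup (Matrix.ProjectiveSpecialLinearGroup (Fin 2) F))
    (hE : ∀ x ∈ E, x * x = 1) : Nat.card E ≤ 4 := by
  classical
  have hne : ∀ X : Matrix.SpecialLinearGroup (Fin 2) F, X ≠ -X := by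
    intro X h
    have h1 : X⁻¹ * X = X⁻¹ * (-X) := by rw [← h]
    rw [inv_mul_cancel, mul_neg, inv_mul_cancel] at h1
    have h3 := congrArg (fun Y : Matrix.SpecialLinearGroup (Fin 2) F => (Y : Matrix (Fin 2) (Fin 2) F) 0 0) h1
    simp at h3
    apply h2
    linear_combination h3
  -- lifts anticommute
  have key : ∀ X Y : Matrix.SpecialLinearGroup (Fin 2) F,
      (QuotientGroup.mk X : Matrix.ProjectiveSpecialLinearGroup (Fin 2) F) ∈ E →
      (QuotientGroup.mk Y : Matrix.ProjectiveSpecialLinearGroup (Fin 2) F) ∈ E →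
      (QuotientGroup.mk X : Matrix.ProjectiveSpecialLinearGroup (Fin 2) F) ≠ 1 →
      (QuotientGroup.mk Y : Matrix.ProjectiveSpecialLinearGroup (Fin 2) F) ≠ 1 →
      (QuotientGroup.mk X : Matrix.ProjectiveSpecialLinearGroup (Fin 2) F) ≠ QuotientGroup.mk Y →
      X * Y = -(Y * X) := by
    intro X Y hX hY hX1 hY1 hXY
    have hsq : ∀ Z : Matrix.SpecialLinearGroup (Fin 2) F,
        (QuotientGroup.mk Z : Matrix.ProjectiveSpecialLinearGroup (Fin 2) F) ∈ E →
        (QuotientGroup.mk Z : Matrix.ProjectiveSpecialLinearGroup (Fin 2) F) ≠ 1 → Z * Z = -1 := by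
      intro Z hZ hZ1
      have h1 : Z * Z ∈ Subgroup.center (Matrix.SpecialLinearGroup (Fin 2) F) := by
        rw [← QuotientGroup.eq_one_iff]
        exact hE _ hZ
      refine (sq_cases h2 h1).resolve_left fun h => hZ1 ?_
      exact (QuotientGroup.eq_one_iff Z).2 h
    have h1 := hsq X hX hX1
    have h3 := hsq Y hY hY1
    have h4 := hsq (X * Y) (E.mul_mem hX hY) (by
      intro h
      apply hXY
      have h5 : (QuotientGroup.mk X : Matrix.ProjectiveSpecialLinearGroup (Fin 2) F) *
          QuotientGroup.mk Y = 1 := h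
      have h6 := hE _ hY
      rw [← h6] at h5
      exact mul_right_cancel h5)
    -- multiply by `X` on the left and `Y` on the right
    have h5 : X * (X * Y * (X * Y)) * Y = Y * X := by
      calc X * (X * Y * (X * Y)) * Y = (X * X) * (Y * X) * (Y * Y) := by group
        _ = Y * X := by rw [h1, h3]; simp
    rw [h4] at h5
    rw [← h5]
    simp
  by_contra hcon
  push Not at hcon
  have hfin : Finite E := Nat.finite_of_card_ne_zero (by omega)
  -- three independent elements
  have hex : ∀ s : Finset (Matrix.ProjectiveSpecialLinearGroup (Fin 2) F), s.card ≤ 4 → ∃ x ∈ E, x ∉ s := by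
    intro s hs
    by_contra h
    push Not at h
    have h1 : (E : Set (Matrix.ProjectiveSpecialLinearGroup (Fin 2) F)) ⊆ s := fun x hx => h x hx
    have h3 := Set.ncard_le_ncard h1 s.finite_toSet
    rw [Set.ncard_coe_finset] at h3
    have h4 : Nat.card E = (E : Set (Matrix.ProjectiveSpecialLinearGroup (Fin 2) F)).ncard := rfl
    omega
  obtain ⟨a, ha, ha1⟩ := hex {1} (by simp)
  obtain ⟨b, hb, hb1⟩ := hex {1, a} ((Finset.card_le_two).trans (by norm_num))
  obtain ⟨c, hc, hc1⟩ := hex {1, a, b, a * b} Finset.card_le_four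
  simp only [Finset.mem_insert, Finset.mem_singleton, not_or] at ha1 hb1 hc1
  obtain ⟨A, rfl⟩ := QuotientGroup.mk_surjective a
  obtain ⟨B, rfl⟩ := QuotientGroup.mk_surjective b
  obtain ⟨C, rfl⟩ := QuotientGroup.mk_surjective c
  have hAB : (QuotientGroup.mk A : Matrix.ProjectiveSpecialLinearGroup (Fin 2) F) *
      QuotientGroup.mk B ≠ 1 := by
    intro h
    apply hb1.2
    have h6 := hE _ ha
    rw [← h6] at h
    exact mul_left_cancel h
  have h1 := key C A hc ha hc1.1 ha1 hc1.2.1
  have h3 := key C B hc hb hc1.1 hb1.1 hc1.2.2.1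
  have h4 := key C (A * B) hc (E.mul_mem ha hb) hc1.1 hAB hc1.2.2.2
  have h5 : C * (A * B) = A * B * C := by
    rw [← mul_assoc, h1, neg_mul, mul_assoc, h3, mul_neg, neg_neg, mul_assoc]
  rw [h5] at h4
  exact hne _ h4

end Cfsg.Agent.H97.NoE8
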