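import Cfsg.Agent.H97.CliffBase
import Cfsg.Agent.H97.CliffElts
import Cfsg.Agent.H97.NoE8
import Cfsg.Agent.H909.Sp4List
import Cfsg.Agent.H753.ResCard
import Cfsg.Agent.H955.Sp

/-!
# The subgroups `2^{1+4}_-.A₅`, `2^{1+4}_-.S₅` of `Sp₄(p)` (task 604, for S5786)
-/

set_option autoImplicit false
set_option linter.unusedSectionVars false
set_option linter.unusedVariables false
set_option linter.unusedSimpArgs false
set_option linter.style.haveILetI false

namespace Cfsg.Agent.H97.Sp4Ext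

open Cfsg Cfsg.Geo Matrix Cfsg.Agent.ClassicalGeometry.SympBasic
open Cfsg.Agent.H909.Sp4List Cfsg.Agent.H97.Cliff
open scoped commutatorElement

universe u

section general

variable {F : Type u} [Field F] {R : Subgroup (GL I4 F)} {t : Fin 5 → GL I4 F}

theorem comm_of_frame {G : Type*} [Group G] [HasDistribNeg G] {R : Subgroup G} {t : Fin 5 → G}
    (fr : Frame R t) {g : G} (h : ∀ i, g * t i = t i * g) : ∀ x ∈ R, g * x = x * g := by
  intro x hx
  have h1 := fr.gen hx
  have h2 : Subgroup.closure (Set.range t) ≤ Subgroup.centralizer {g} := by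
    rw [Subgroup.closure_le]
    rintro _ ⟨i, rfl⟩
    rw [SetLike.mem_coe, Subgroup.mem_centralizer_iff]
    rintro _ rfl
    exact h i
  exact Subgroup.mem_centralizer_iff.1 (h2 h1) g rfl

/-- the centraliser of a frame in `Sp₄` -/
theorem cent_frame (fr : Frame R t) (habs : ActsAbsolutelyIrreducibly (matrixSet R)) {g : GL I4 F}
    (hg : g ∈ spGL 2 F) (h : ∀ i, g * t i = t i * g) : g = 1 ∨ g = -1 := by
  have h1 := comm_of_frame fr h
  obtain ⟨c, hc⟩ := habs.2 (g : Matrix I4 I4 F) (by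
    rintro _ ⟨x, hx, rfl⟩
    change (g : Matrix I4 I4 F) * (x : Matrix I4 I4 F) = (x : Matrix I4 I4 F) * (g : Matrix I4 I4 F)
    rw [← Units.val_mul, h1 x hx, Units.val_mul])
  have hc0 : c ≠ 0 := by
    rintro rfl
    rw [zero_smul] at hc
    have h3 : (g : Matrix I4 I4 F) * ((g⁻¹ : GL I4 F) : Matrix I4 I4 F) = 1 := by
      rw [← Units.val_mul, mul_inv_cancel]; rfl
    rw [hc, zero_mul] at h3
    exact zero_ne_one h3
  have h3 := H753.ResCard.scalar_sp (z := g) ((mem_scalars_iff g).2 ⟨Units.mk0 c hc0, hc⟩) hg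
  obtain ⟨n, hn⟩ := h3
  have hn' : (-1 : GL I4 F) ^ n = g := hn
  rw [← hn']
  rcases Int.even_or_odd n with he | ho
  · left; exact he.neg_one_zpow
  · right; exact ho.neg_one_zpow

end general

section T7

variable {F : Type u} [Field F] [Fintype F]

theorem two_ne_zero_of {R : Subgroup (GL I4 F)} (habs : ActsAbsolutelyIrreducibly (matrixSet R))
    (hz : Nat.card (Subgroup.center R) = 2) : (2 : F) ≠ 0 := by
  classical
  intro h2
  obtain ⟨⟨z, hzc⟩, hzo⟩ := exists_prime_orderOf_dvd_card' (G := Subgroup.center R) 2 (by rw [hz])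
  have hzo' : orderOf z = 2 := (Subgroup.orderOf_mk z hzc).symm.trans hzo
  have hz1 : z ≠ 1 := by
    rintro rfl; rw [orderOf_one] at hzo'; exact absurd hzo' (by norm_num)
  have hzz : z * z = 1 := by
    have h := pow_orderOf_eq_one z
    rwa [hzo', pow_two] at h
  obtain ⟨c, hc⟩ := H921.center_scalar habs z hzc
  have h1 : ((z : GL I4 F) : Matrix I4 I4 F) * ((z : GL I4 F) : Matrix I4 I4 F) = 1 := by
    rw [← Units.val_mul, ← Subgroup.coe_mul, hzz]; rfl
  rw [hc] at h1
  have h3 := congrFun (congrFun h1 (Sum.inl 0)) (Sum.inl 0)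
  simp only [Matrix.smul_mul, Matrix.mul_smul, one_mul, Matrix.smul_apply, Matrix.one_apply_eq,
    smul_eq_mul, mul_one] at h3
  apply hz1
  apply Subtype.ext
  apply Units.ext
  have h4 : (c - 1) ^ 2 = 0 := by linear_combination h3 + (1 - c) * h2
  have h5 : c = 1 := sub_eq_zero.1 (pow_eq_zero_iff two_ne_zero |>.1 h4)
  rw [hc, h5, one_smul]; rfl

/-- **The order of the groups `2^{1+4}_-.O₄⁻(2)`.** -/
theorem card_T7_dvd {H : Subgroup (GL I4 F)} (h : T7 H) : Nat.card H ∣ 3840 := by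
  obtain ⟨p, R, hp, hc, hR, habs, hsim, h32, hz, hm, rfl⟩ := h
  have h2 := two_ne_zero_of habs hz
  have B := base_of h2 hR habs h32 hz hm
  obtain ⟨t, fr⟩ := B.exists_frame
  refine card_dvd_of_frame fr (H := subgroupNormalizer R ⊓ spGL 2 F) ?_ ?_
  · intro g hg x hx
    exact (Subgroup.mem_normalizer_iff.1 hg.1 x).1 hx
  · intro g hg h
    exact cent_frame fr habs hg.2 h

end T7

/-! ### The group `M` -/

section M

variable {ι : Type} [Fintype ι] [DecidableEq ι] {F : Type u} [Field F] [Finite F]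
  {R M : Subgroup (GL ι F)} {t : Fin 5 → GL ι F}

theorem alternating_le_range (h2 : (2 : F) ≠ 0) (fr : Frame R t)
    (hM : ∀ g ∈ M, ∀ x ∈ R, g * x * g⁻¹ ∈ R)
    (he : ∀ i j k l, ∀ hij : i ≠ j, ∀ hkl : k ≠ l, e2 h2 (fr.tt_sq hij) (fr.tt_sq hkl) ∈ M) :
    alternatingGroup (Fin 5) ≤ (phi fr hM).range := by
  apply alternating_le
  intro i j k l hij hkl
  have h1 := he i j k l hij hkl
  have h3 := fr.e2_conj h2 hij hkl
  generalize e2 h2 (fr.tt_sq hij) (fr.tt_sq hkl) = g at h1 h3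
  exact ⟨⟨g, h1⟩, Equiv.ext fun n => phi_eq fr hM (h3 n)⟩

theorem R_le_ker (B : Base R) (fr : Frame R t) (hM : ∀ g ∈ M, ∀ x ∈ R, g * x * g⁻¹ ∈ R) :
    R.subgroupOf M ≤ (phi fr hM).ker := by
  intro g hg
  rw [mem_ker_iff]
  intro i
  rcases B.comm (g : GL ι F) hg (t i) (fr.mem i) with h | h
  · left
    rw [h, mul_inv_cancel_right]
  · right
    rw [h, neg_mul, mul_inv_cancel_right]

theorem dvd_card_M (h2 : (2 : F) ≠ 0) (B : Base R) (fr : Frame R t)
    (hM : ∀ g ∈ M, ∀ x ∈ R, g * x * g⁻¹ ∈ R) (hRM : R ≤ M)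
    (he : ∀ i j k l, ∀ hij : i ≠ j, ∀ hkl : k ≠ l, e2 h2 (fr.tt_sq hij) (fr.tt_sq hkl) ∈ M) :
    1920 ∣ Nat.card M := by
  classical
  have hfin : Finite (GL ι F) := inferInstance
  rw [← Subgroup.card_mul_index (phi fr hM).ker, Subgroup.index_ker]
  have h1 : 32 ∣ Nat.card (phi fr hM).ker := by
    have h3 := Subgroup.card_dvd_of_le (R_le_ker B fr hM)
    rwa [Nat.card_congr (Subgroup.subgroupOfEquivOfLe hRM).toEquiv, B.card] at h3
  have h3 : 60 ∣ Nat.card (phi fr hM).range := by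
    have h4 := Subgroup.card_dvd_of_le (alternating_le_range h2 fr hM he)
    rwa [nat_card_alternatingGroup, Nat.card_fin] at h4
  exact Nat.mul_dvd_mul h1 h3

/-- `R` lies in the derived subgroup of `M`. -/
theorem R_le_commutator (h2 : (2 : F) ≠ 0) (fr : Frame R t) (hRM : R ≤ M)
    (he : ∀ i j k l, ∀ hij : i ≠ j, ∀ hkl : k ≠ l, e2 h2 (fr.tt_sq hij) (fr.tt_sq hkl) ∈ M) :
    R ≤ ⁅M, M⁆ := by
  have htM : ∀ i, t i ∈ M := fun i => hRM (fr.mem i)
  have key : ∀ i j, i ≠ j → t i * t j ∈ ⁅M, M⁆ := by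
    intro i j hij
    obtain ⟨k, hki, hkj⟩ : ∃ k : Fin 5, k ≠ i ∧ k ≠ j := by
      clear htM
      revert i j; decide
    have h1 : Step (t j * t k) (t i) (t i) := fr.step_other hij hki.symm
    have h3 : Step (t i * t j) (t i) (-(t j)) := fr.step_left hij
    have h4 := e2_mul h2 (fr.tt_sq hij) (fr.tt_sq hkj.symm) h1 h3
    have h5 := Subgroup.commutator_mem_commutator (he i j j k hij hkj.symm) (htM i)
    rw [commutatorElement_def, h4] at h5
    have h6 : (t i)⁻¹ = t i := inv_eq_of_mul_eq_one_left (fr.sq i)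
    rw [h6, neg_mul, ← fr.anti i j hij] at h5
    exact h5
  have h4 : t 4 ∈ ⁅M, M⁆ := by
    rw [fr.prod, mul_assoc]
    exact Subgroup.mul_mem _ (key 0 1 (by decide)) (key 2 3 (by decide))
  have hall : ∀ i, t i ∈ ⁅M, M⁆ := by
    intro i
    by_cases hi : i = 4
    · rw [hi]; exact h4
    · have h5 := Subgroup.mul_mem _ (key i 4 hi) h4
      rwa [mul_assoc, fr.sq, mul_one] at h5
  refine fr.gen.trans ?_
  rw [Subgroup.closure_le]
  rintro _ ⟨i, rfl⟩
  exact hall i

end M

section T7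

variable {G : Type*} [Group G] [HasDistribNeg G] {R R' L : Subgroup G} {t' : Fin 5 → G}

theorem core_eq (fr' : Frame R' t') (hL : ∀ g ∈ L, ∀ x ∈ R', g * x * g⁻¹ ∈ R') [Finite L]
    (hc : ∀ g ∈ L, (∀ i, g * t' i = t' i * g) → g = 1 ∨ g = -1)
    (hRL : R ≤ L) (h32 : Nat.card R = 32) {g : G} (hg : g ∈ L) (ho : orderOf g = 5)
    (hgR : g ∈ Subgroup.normalizer (R : Set G)) :
    ∀ l ∈ L, ∀ x ∈ R, l * x * l⁻¹ ∈ R := by
  classical
  set φ := phi fr' hL with hφ
  have hker : Nat.card φ.ker ∣ 32 := card_ker_dvd fr' hL hc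
  have hg1 : φ ⟨g, hg⟩ ≠ 1 := by
    intro h
    have h1 : (⟨g, hg⟩ : L) ∈ φ.ker := h
    have h3 : orderOf (⟨⟨g, hg⟩, h1⟩ : φ.ker) ∣ Nat.card φ.ker := orderOf_dvd_natCard _
    rw [Subgroup.orderOf_mk, Subgroup.orderOf_mk, ho] at h3
    exact absurd (h3.trans hker) (by norm_num)
  have hgo : orderOf (φ ⟨g, hg⟩) = 5 := by
    have h1 : orderOf (φ ⟨g, hg⟩) ∣ 5 := by
      have := orderOf_map_dvd φ ⟨g, hg⟩
      rwa [Subgroup.orderOf_mk, ho] at this
    rcases (Nat.dvd_prime (by norm_num)).1 h1 with h | h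
    · exact absurd (orderOf_eq_one_iff.1 h) hg1
    · exact h
  have hcyc : (φ ⟨g, hg⟩).IsCycle := by
    apply Equiv.Perm.isCycle_of_prime_order' (by rw [hgo]; norm_num)
    rw [hgo, Fintype.card_fin]; norm_num
  have hsupp : (φ ⟨g, hg⟩).support = Finset.univ := by
    rw [← Finset.card_eq_iff_eq_univ, ← hcyc.orderOf, hgo, Fintype.card_fin]
  have htrans : ∀ i j : Fin 5, ∃ n : ℤ, ((φ ⟨g, hg⟩) ^ n) i = j := by
    intro i j
    apply hcyc.sameCycle
    · rw [← Equiv.Perm.mem_support, hsupp]; exact Finset.mem_univ _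
    · rw [← Equiv.Perm.mem_support, hsupp]; exact Finset.mem_univ _
  -- a fixed point of `R`
  have hRfin : Finite R := Nat.finite_of_card_ne_zero (by rw [h32]; norm_num)
  have hRp : IsPGroup 2 R := IsPGroup.of_card (n := 5) (by rw [h32]; norm_num)
  letI : MulAction R (Fin 5) := MulAction.compHom (Fin 5) (φ.comp (Subgroup.inclusion hRL))
  obtain ⟨i₀, hi₀⟩ := hRp.nonempty_fixed_point_of_prime_not_dvd_card (Fin 5)
    (by rw [Nat.card_eq_fintype_card, Fintype.card_fin]; norm_num)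
  have hfix : ∀ x (hx : x ∈ R), φ ⟨x, hRL hx⟩ i₀ = i₀ := fun x hx => hi₀ ⟨x, hx⟩
  have hRker : ∀ x (hx : x ∈ R), (⟨x, hRL hx⟩ : L) ∈ φ.ker := by
    intro x hx
    rw [MonoidHom.mem_ker]
    ext j
    obtain ⟨n, hn⟩ := htrans i₀ j
    have h1 : (g ^ n)⁻¹ * x * (g ^ n) ∈ R := by
      have h3 : (g ^ n)⁻¹ ∈ Subgroup.normalizer (R : Set G) :=
        Subgroup.inv_mem _ (Subgroup.zpow_mem _ hgR n)
      have h4 := (Subgroup.mem_normalizer_iff.1 h3 x).1 hx
      rwa [inv_inv] at h4
    have h3 : (⟨x, hRL hx⟩ : L) * ⟨g, hg⟩ ^ n = ⟨g, hg⟩ ^ n * ⟨_, hRL h1⟩ := by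
      apply Subtype.ext
      push_cast
      group
    have h4 := congrArg (fun y => φ y i₀) h3
    simp only [map_mul, map_zpow, Equiv.Perm.mul_apply] at h4
    rw [hn, hfix _ h1, hn] at h4
    rw [h4]
    rfl
  -- equality
  have heq : R.subgroupOf L = φ.ker := by
    apply Subgroup.eq_of_le_of_card_ge
    · intro y hy
      exact hRker y hy
    · rw [Nat.card_congr (Subgroup.subgroupOfEquivOfLe hRL).toEquiv, h32]
      exact Nat.le_of_dvd (by norm_num) hker
  intro l hl x hx
  have h1 : (⟨l, hl⟩ : L) * ⟨x, hRL hx⟩ * (⟨l, hl⟩ : L)⁻¹ ∈ φ.ker :=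
    (MonoidHom.normal_ker φ).conj_mem _ (hRker x hx) _
  rw [← heq] at h1
  exact h1

end T7

/-! ### The fields and decompositions -/

section excl

variable {F : Type u} [Field F] {R L : Subgroup (GL I4 F)}

theorem not_decomp {D : Fin 2 → Submodule F (I4 → F)} (hD : IsMDecomposition 2 D)
    (hL : L ≤ decompositionStabilizer D) (hR : R ≤ ⁅L, L⁆) (hirr : ActsIrreducibly (matrixSet R)) :
    False := by
  have h1 : ∀ g ∈ ⁅L, L⁆, ∀ i, (D i).map (Matrix.toLin' (g : Matrix I4 I4 F)) = D i := by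
    intro g hg
    have h2 : L ≤ decompositionStabilizer D := hL
    induction hg using Subgroup.closure_induction with
    | mem g hg =>
      obtain ⟨a, ha, b, hb, rfl⟩ := hg
      intro i
      obtain ⟨σ, hσ⟩ := h2 ha
      obtain ⟨τ, hτ⟩ := h2 hb
      obtain ⟨σ', hσ'⟩ := h2 (L.inv_mem ha)
      obtain ⟨τ', hτ'⟩ := h2 (L.inv_mem hb)
      have hinj : Function.Injective D := by
        intro i j hij
        by_contra hne
        have h3 := hD.indep.pairwiseDisjoint hne
        rw [Function.onFun, hij, disjoint_self] at h3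
        have h4 := hD.finrank_eq j
        rw [h3, finrank_bot] at h4
        exact absurd h4 (by norm_num)
      have e1 : ∀ i, σ' (σ i) = i := by
        intro i
        apply hinj
        rw [← hσ', ← hσ, ← Submodule.map_comp, ← Matrix.toLin'_mul, ← Units.val_mul, inv_mul_cancel,
          Units.val_one, Matrix.toLin'_one, Submodule.map_id]
      have e2 : ∀ i, τ' (τ i) = i := by
        intro i
        apply hinj
        rw [← hτ', ← hτ, ← Submodule.map_comp, ← Matrix.toLin'_mul, ← Units.val_mul, inv_mul_cancel,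
          Units.val_one, Matrix.toLin'_one, Submodule.map_id]
      rw [commutatorElement_def, Units.val_mul, Units.val_mul, Units.val_mul, Matrix.toLin'_mul,
        Matrix.toLin'_mul, Matrix.toLin'_mul, Submodule.map_comp, Submodule.map_comp,
        Submodule.map_comp, hτ', hσ', hτ, hσ]
      congr 1
      -- permutations of two points commute
      revert i
      revert e1 e2
      clear hσ hτ hσ' hτ'
      revert σ τ σ' τ'
      decide
    | one =>
      intro i
      rw [Units.val_one, Matrix.toLin'_one, Submodule.map_id]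
    | mul a b ha hb h3 h4 =>
      intro i
      rw [Units.val_mul, Matrix.toLin'_mul, Submodule.map_comp, h4, h3]
    | inv a ha h3 =>
      intro i
      conv_lhs => rw [← h3 i]
      rw [← Submodule.map_comp, ← Matrix.toLin'_mul, ← Units.val_mul, inv_mul_cancel,
          Units.val_one, Matrix.toLin'_one, Submodule.map_id]
  have h3 := hirr (D 0) (by
    rintro _ ⟨g, hg, rfl⟩
    exact (h1 g (hR hg) 0).le)
  have h4 := hD.finrank_eq 0
  rcases h3 with h | h
  · rw [h, finrank_bot] at h4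
    exact absurd h4 (by norm_num)
  · rw [h, finrank_top, Module.finrank_fintype_fun_eq_card] at h4
    simp at h4

theorem not_field (h2 : (2 : F) ≠ 0) {K : Subalgebra F (Matrix I4 I4 F)} (hK : IsFieldSubalgebra 2 K)
    (hL : L ≤ subalgebraNormalizer K) (hR : R ≤ ⁅L, L⁆)
    (habs : ActsAbsolutelyIrreducibly (matrixSet R)) : False := by
  -- an element of trace zero
  have h4 : (4 : F) ≠ 0 := by
    have : (4 : F) = 2 * 2 := by norm_num
    rw [this]; exact mul_ne_zero h2 h2
  have htr1 : ∀ c : F, Matrix.trace (c • (1 : Matrix I4 I4 F)) = 4 * c := by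
    intro c
    rw [Matrix.trace_smul, Matrix.trace_one, Fintype.card_sum, Fintype.card_fin, smul_eq_mul]
    push_cast
    ring
  obtain ⟨k, hk, hks⟩ : ∃ k ∈ K, ∀ c : F, k ≠ c • (1 : Matrix I4 I4 F) := by
    by_contra hcon
    push Not at hcon
    have h1 : K = ⊥ := by
      rw [eq_bot_iff]
      intro x hx
      obtain ⟨c, hc⟩ := hcon x hx
      rw [hc]
      exact Subalgebra.smul_mem _ (Subalgebra.one_mem _) c
    have h3 := hK.finrank_eq
    rw [h1, Subalgebra.finrank_bot] at h3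
    exact absurd h3 (by norm_num)
  obtain ⟨k₀, hk₀, hk₀s, htr⟩ : ∃ k ∈ K, (∀ c : F, k ≠ c • (1 : Matrix I4 I4 F)) ∧ Matrix.trace k = 0 := by
    refine ⟨k - (Matrix.trace k / 4) • 1, K.sub_mem hk (K.smul_mem K.one_mem _), ?_, ?_⟩
    · intro c hc
      apply hks (c + Matrix.trace k / 4)
      rw [add_smul, ← hc, sub_add_cancel]
    · rw [Matrix.trace_sub, htr1]
      field_simp
      ring
  -- `K = F + F k₀`
  have hspan : ∀ x ∈ K, ∃ a b : F, x = a • (1 : Matrix I4 I4 F) + b • k₀ := by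
    intro x hx
    have hli : LinearIndependent F ![(⟨1, K.one_mem⟩ : K), ⟨k₀, hk₀⟩] := by
      rw [LinearIndependent.pair_iff]
      intro a b hab
      have h1 : a • (1 : Matrix I4 I4 F) + b • k₀ = 0 := congrArg Subtype.val hab
      have hb : b = 0 := by
        by_contra hb
        apply hk₀s (-(b⁻¹ * a))
        have h3 : b⁻¹ • (a • (1 : Matrix I4 I4 F) + b • k₀) = 0 := by rw [h1, smul_zero]
        rw [smul_add, smul_smul, smul_smul, inv_mul_cancel₀ hb, one_smul] at h3
        rw [neg_smul]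
        exact eq_neg_of_add_eq_zero_right h3
      refine ⟨?_, hb⟩
      rw [hb, zero_smul, add_zero] at h1
      have h3 := congrArg Matrix.trace h1
      rw [htr1, Matrix.trace_zero] at h3
      exact (mul_eq_zero.1 h3).resolve_left h4
    have hfinK : Module.finrank F K = 2 := hK.finrank_eq
    have hfd : FiniteDimensional F K := Module.finite_of_finrank_pos (by rw [hfinK]; norm_num)
    have hsp := hli.span_eq_top_of_card_eq_finrank' (by rw [hfinK]; rfl)
    have hxm : (⟨x, hx⟩ : K) ∈ Submodule.span F (Set.range ![(⟨1, K.one_mem⟩ : K), ⟨k₀, hk₀⟩]) := by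
      rw [hsp]; trivial
    rw [Matrix.range_cons, Matrix.range_cons, Matrix.range_empty, Set.union_empty,
      Set.singleton_union, Submodule.mem_span_pair] at hxm
    obtain ⟨a, b, hab⟩ := hxm
    exact ⟨a, b, (congrArg Subtype.val hab).symm⟩
  -- the action on `k₀` is by scalars
  have hact : ∀ g ∈ L, ∃ b : F, (g : Matrix I4 I4 F) * k₀ * ((g⁻¹ : GL I4 F) : Matrix I4 I4 F) = b • k₀ := by
    intro g hg
    obtain ⟨a, b, hab⟩ := hspan _ ((hL hg k₀).1 hk₀)
    have h1 := congrArg Matrix.trace hab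
    rw [Matrix.trace_mul_cycle, ← Units.val_mul, inv_mul_cancel, Units.val_one, one_mul, htr,
      Matrix.trace_add, htr1, Matrix.trace_smul, htr, smul_zero, add_zero] at h1
    have ha : a = 0 := (mul_eq_zero.1 h1.symm).resolve_left h4
    refine ⟨b, ?_⟩
    rw [hab, ha, zero_smul, zero_add]
  -- commutators centralise `k₀`
  have hcom : ∀ g ∈ ⁅L, L⁆, (g : Matrix I4 I4 F) * k₀ * ((g⁻¹ : GL I4 F) : Matrix I4 I4 F) = k₀ := by
    intro g hg
    have hmul : ∀ (a b : GL I4 F), ((a * b : GL I4 F) : Matrix I4 I4 F) * k₀ *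
        (((a * b)⁻¹ : GL I4 F) : Matrix I4 I4 F) = (a : Matrix I4 I4 F) * ((b : Matrix I4 I4 F) * k₀ *
        ((b⁻¹ : GL I4 F) : Matrix I4 I4 F)) * ((a⁻¹ : GL I4 F) : Matrix I4 I4 F) := by
      intro a b
      rw [_root_.mul_inv_rev, Units.val_mul, Units.val_mul]
      simp only [mul_assoc]
    induction hg using Subgroup.closure_induction with
    | mem g hg =>
      obtain ⟨a, ha, b, hb, rfl⟩ := hg
      obtain ⟨x, hx⟩ := hact a ha
      obtain ⟨y, hy⟩ := hact b hb
      obtain ⟨x', hx'⟩ := hact a⁻¹ (L.inv_mem ha)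
      obtain ⟨y', hy'⟩ := hact b⁻¹ (L.inv_mem hb)
      have e1 : ∀ (a : GL I4 F) (x x' : F), (a : Matrix I4 I4 F) * k₀ * ((a⁻¹ : GL I4 F) : Matrix I4 I4 F) = x • k₀ →
          ((a⁻¹ : GL I4 F) : Matrix I4 I4 F) * k₀ * ((a⁻¹⁻¹ : GL I4 F) : Matrix I4 I4 F) = x' • k₀ →
          x * x' = 1 := by
        intro a x x' hx hx'
        have h3 := hmul a a⁻¹
        rw [hx', mul_inv_cancel, inv_one, Units.val_one, one_mul, mul_one, Matrix.mul_smul,
          Matrix.smul_mul, hx, smul_smul] at h3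
        have h5 : (x' * x - 1) • k₀ = 0 := by rw [sub_smul, one_smul, ← h3, sub_self]
        rcases smul_eq_zero.1 h5 with h6 | h6
        · linear_combination h6
        · exfalso
          apply hk₀s 0
          rw [h6, zero_smul]
      have h3 := e1 a x x' hx hx'
      have h5 := e1 b y y' hy hy'
      rw [commutatorElement_def, hmul, hy', Matrix.mul_smul, Matrix.smul_mul, hmul, hx',
        Matrix.mul_smul, Matrix.smul_mul, hmul, hy, Matrix.mul_smul, Matrix.smul_mul, hx,
        smul_smul, smul_smul, smul_smul]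
      have h6 : y' * (x' * (y * x)) = 1 := by linear_combination y * y' * h3 + h5
      rw [← mul_assoc, ← mul_assoc] at h6
      rw [h6, one_smul]
    | one => rw [inv_one, Units.val_one, one_mul, mul_one]
    | mul a b ha hb h3 h5 => rw [hmul, h5, h3]
    | inv a ha h3 =>
      have h5 := hmul a⁻¹ a
      rw [h3, inv_mul_cancel, inv_one, Units.val_one, one_mul, mul_one] at h5
      exact h5.symm
  obtain ⟨c, hc⟩ := habs.2 k₀ (by
    rintro _ ⟨g, hg, rfl⟩
    have h1 := hcom g (hR hg)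
    have h3 : (g : Matrix I4 I4 F) * k₀ * ((g⁻¹ : GL I4 F) : Matrix I4 I4 F) * (g : Matrix I4 I4 F) =
        k₀ * (g : Matrix I4 I4 F) := by rw [h1]
    rw [mul_assoc, ← Units.val_mul, inv_mul_cancel, Units.val_one, mul_one] at h3
    exact h3.symm)
  exact hk₀s c hc

end excl

section L2

variable {F : Type u} [Field F] [Fintype F]

theorem not_L2 (h2 : (2 : F) ≠ 0) {L P R : Subgroup (GL I4 F)} (hcore : IsResidualCore L P)
    (e : (P ⧸ (scalars I4 F).subgroupOf P) ≃* Matrix.ProjectiveSpecialLinearGroup (Fin 2) F)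
    (B : Base R) (hRL : R ≤ L)
    (hc : Nat.card L ∣ 2 * (Fintype.card F * (Fintype.card F ^ 2 - 1))) : False := by
  classical
  have hfin : Finite (GL I4 F) := inferInstance
  have hsn : (scalars I4 F).Normal := scalars_normal
  set N := (scalars I4 F).subgroupOf P with hN
  have hpsl : 2 * Nat.card (Matrix.ProjectiveSpecialLinearGroup (Fin 2) F) =
      Fintype.card F * (Fintype.card F ^ 2 - 1) := by
    have h1 := Subgroup.card_mul_index (Subgroup.center (Matrix.SpecialLinearGroup (Fin 2) F))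
    rw [ClassicalGeometry.PSL2Basic.card_center_SL2_odd h2, ClassicalGeometry.PSL2Basic.card_SL2] at h1
    exact h1
  have hP : Nat.card P = Nat.card N * Nat.card (Matrix.ProjectiveSpecialLinearGroup (Fin 2) F) := by
    rw [← Subgroup.card_mul_index N]
    congr 1
    exact Nat.card_congr e.toEquiv
  have hPSL0 : 0 < Nat.card (Matrix.ProjectiveSpecialLinearGroup (Fin 2) F) := Nat.card_pos
  have hPn : (P.subgroupOf L).Normal := ⟨fun x hx g => hcore.normal g g.2 x hx⟩
  -- the index of `P`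
  have hidx : Nat.card N * (P.subgroupOf L).index ≤ 4 := by
    have h1 := Subgroup.card_mul_index (P.subgroupOf L)
    rw [Nat.card_congr (Subgroup.subgroupOfEquivOfLe hcore.le).toEquiv, hP] at h1
    have hq : 0 < Fintype.card F * (Fintype.card F ^ 2 - 1) := by
      rw [← hpsl]; positivity
    have h3 := Nat.le_of_dvd (by positivity) hc
    rw [← hpsl, ← h1] at h3
    have h4 : (Nat.card N * (P.subgroupOf L).index) * Nat.card (Matrix.ProjectiveSpecialLinearGroup (Fin 2) F) ≤
        4 * Nat.card (Matrix.ProjectiveSpecialLinearGroup (Fin 2) F) := by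
      linarith
    exact Nat.le_of_mul_le_mul_right h4 hPSL0
  have hrel : P.relIndex R ∣ (P.subgroupOf L).index := by
    rw [← Subgroup.relIndex_subgroupOf hRL]
    exact Subgroup.relIndex_dvd_index_of_normal _ _
  have hidx0 : (P.subgroupOf L).index ≠ 0 := Subgroup.index_ne_zero_of_finite
  have hrel' : P.relIndex R ≤ (P.subgroupOf L).index := Nat.le_of_dvd (Nat.pos_of_ne_zero hidx0) hrel
  have hS : Nat.card (P.subgroupOf R) * P.relIndex R = 32 := by
    rw [← B.card]; exact Subgroup.card_mul_index (P.subgroupOf R)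
  -- the map to `PSL₂`
  let θ : (P.subgroupOf R) →* Matrix.ProjectiveSpecialLinearGroup (Fin 2) F :=
    e.toMonoidHom.comp ((QuotientGroup.mk' N).comp
      { toFun := fun x : P.subgroupOf R => (⟨((x : R) : GL I4 F), x.2⟩ : P)
        map_one' := rfl
        map_mul' := fun _ _ => rfl })
  have hθ : ∀ x : P.subgroupOf R, θ x = e (QuotientGroup.mk ⟨((x : R) : GL I4 F), x.2⟩) := fun _ => rfl
  have hker : Nat.card θ.ker ≤ Nat.card N := by
    have h1 : ∀ x : θ.ker, (⟨(((x : P.subgroupOf R) : R) : GL I4 F), x.1.2⟩ : P) ∈ N := by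
      intro x
      have h3 : θ x = 1 := x.2
      rw [hθ, e.map_eq_one_iff] at h3
      exact (QuotientGroup.eq_one_iff _).1 h3
    refine Nat.card_le_card_of_injective (fun x : θ.ker => (⟨_, h1 x⟩ : N)) ?_
    intro x y hxy
    have h3 := congrArg (fun z : N => ((z : P) : GL I4 F)) hxy
    exact Subtype.ext (Subtype.ext (Subtype.ext h3))
  have hneg : (-1 : GL I4 F) ∈ scalars I4 F := by
    rw [mem_scalars_iff]
    exact ⟨-1, by simp⟩
  have hrange : Nat.card θ.range ≤ 4 := by
    apply NoE8.card_le_four h2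
    rintro _ ⟨x, rfl⟩
    rw [← map_mul, hθ, e.map_eq_one_iff]
    apply (QuotientGroup.eq_one_iff _).2
    change ((x : R) : GL I4 F) * ((x : R) : GL I4 F) ∈ scalars I4 F
    rcases B.sq _ (x : R).2 with h | h
    · rw [h]; exact Subgroup.one_mem _
    · rw [h]; exact hneg
  have hSc : Nat.card (P.subgroupOf R) = Nat.card θ.ker * Nat.card θ.range := by
    rw [← Subgroup.card_mul_index θ.ker, Subgroup.index_ker]
  have h1 : Nat.card (P.subgroupOf R) ≤ Nat.card N * 4 := by
    rw [hSc]; exact Nat.mul_le_mul hker hrange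
  have h3 : 32 ≤ 16 := by
    calc 32 = Nat.card (P.subgroupOf R) * P.relIndex R := hS.symm
      _ ≤ (Nat.card N * 4) * (P.subgroupOf L).index := Nat.mul_le_mul h1 hrel'
      _ = (Nat.card N * (P.subgroupOf L).index) * 4 := by ring
      _ ≤ 4 * 4 := Nat.mul_le_mul_right 4 hidx
  omega

end L2

section main

variable {F : Type u} [Field F] [Fintype F]

theorem ne_spGL (hodd : Odd (Fintype.card F)) {M : Subgroup (GL I4 F)} (hM : Nat.card M ∣ 3840) :
    M ≠ spGL 2 F := by
  rintro rfl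
  rw [H955.card_spGL, Finset.prod_range_succ, Finset.prod_range_succ, Finset.prod_range_zero, one_mul,
    Nat.card_eq_fintype_card] at hM
  have h1 : Fintype.card F ^ 4 ∣ 3840 := (Dvd.intro _ rfl).trans hM
  have h3 : 1 < Fintype.card F := Fintype.one_lt_card
  have hcop : Nat.Coprime (Fintype.card F ^ 4) (2 ^ 8) :=
    Nat.Coprime.pow _ _ (Nat.coprime_two_right.2 hodd)
  have h4 : Fintype.card F ^ 4 ∣ 15 := by
    have h5 : (3840 : ℕ) = 2 ^ 8 * 15 := by norm_num
    rw [h5] at h1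
    exact hcop.dvd_of_dvd_mul_left h1
  have h5 : 3 ≤ Fintype.card F := by
    obtain ⟨k, hk⟩ := hodd
    omega
  have h6 : 3 ^ 4 ≤ Fintype.card F ^ 4 := Nat.pow_le_pow_left h5 4
  have h7 := Nat.le_of_dvd (by norm_num) h4
  omega

/-- **The groups `2^{1+4}_-.A₅`, `2^{1+4}_-.S₅` are maximal in `Sp₄(p)`.** -/
theorem part7 (hodd : Odd (Fintype.card F)) (h88 : Res88 F) (p : ℕ) (R : Subgroup (GL I4 F)) (hp : p.Prime)
    (hc : Fintype.card F = p) (hR : IsSymplecticTypeGroup 2 R)
    (habs : ActsAbsolutelyIrreducibly (matrixSet R)) (hle : R ≤ spGL 2 F) (h32 : Nat.card R = 32)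
    (hz : Nat.card (Subgroup.center R) = 2) (hm : IsOfMinusType 2 R) :
    IsMaximalIn (spGL 2 F) (subgroupNormalizer R ⊓ spGL 2 F) := by
  classical
  have hfin : Finite (GL I4 F) := inferInstance
  have h2 := two_ne_zero_of habs hz
  have B := base_of h2 hR habs h32 hz hm
  obtain ⟨t, fr⟩ := B.exists_frame
  have hsim : R ≤ similarityGroup (sympForm 2 F) := by
    intro g hg
    exact ⟨1, fun u v => by rw [Units.val_one, one_mul]; exact hle hg u v⟩
  have hcardM : Nat.card ↥(subgroupNormalizer R ⊓ spGL 2 F) ∣ 3840 :=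
    card_T7_dvd ⟨p, R, hp, hc, hR, habs, hsim, h32, hz, hm, rfl⟩
  have hMn : ∀ g ∈ subgroupNormalizer R ⊓ spGL 2 F, ∀ x ∈ R, g * x * g⁻¹ ∈ R := fun g hg x hx =>
    (Subgroup.mem_normalizer_iff.1 hg.1 x).1 hx
  have hRM : R ≤ subgroupNormalizer R ⊓ spGL 2 F := le_inf Subgroup.le_normalizer hle
  have he : ∀ i j k l, ∀ hij : i ≠ j, ∀ hkl : k ≠ l,
      e2 h2 (fr.tt_sq hij) (fr.tt_sq hkl) ∈ subgroupNormalizer R ⊓ spGL 2 F := by
    intro i j k l hij hkl
    have h1 : t i * t j ∈ R := R.mul_mem (fr.mem i) (fr.mem j)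
    have h3 : t k * t l ∈ R := R.mul_mem (fr.mem k) (fr.mem l)
    exact ⟨mem_normalizer_of (B.e2_norm h2 _ _ h1 h3), e2_mem h2 _ _ (hle h1) (hle h3)⟩
  have hdvd := dvd_card_M h2 B fr hMn hRM he
  have hRcomm := R_le_commutator h2 fr hRM he
  generalize hMdef : subgroupNormalizer R ⊓ spGL 2 F = M at hcardM hMn hRM he hdvd hRcomm
  have hMsp : M ≤ spGL 2 F := by rw [← hMdef]; exact inf_le_right
  refine maximal_of hMsp (ne_spGL hodd hcardM) ?_
  intro L hL hML
  have hLsp : L ≤ spGL 2 F := hL.1.le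
  have hRL : R ≤ L := hRM.trans hML
  have hRLc : R ≤ ⁅L, L⁆ := hRcomm.trans (Subgroup.commutator_mono hML hML)
  have hMLc : 1920 ∣ Nat.card L := hdvd.trans (Subgroup.card_dvd_of_le hML)
  rcases list hodd h88 hL with h | h | h | h | h | h | h | h
  · -- reducible
    exfalso
    obtain ⟨W, hW0, hWs, rfl⟩ := h
    rcases habs.1 W (by
      rintro _ ⟨g, hg, rfl⟩
      rintro _ ⟨w, hw, rfl⟩
      exact ((hRL hg).1 w).1 hw) with h1 | h1
    · exact hW0 h1
    · have h3 := hWs (Pi.single (Sum.inr 0) 1) (by rw [h1]; trivial) (Pi.single (Sum.inl 0) 1)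
        (by rw [h1]; trivial)
      have h4 : sympForm 2 F (Pi.single (Sum.inr 0) 1) (Pi.single (Sum.inl 0) 1) = 1 := by
        simp [sympForm, Matrix.J, Matrix.fromBlocks, Matrix.mulVec_single]
      rw [h4] at h3
      exact one_ne_zero h3
  · exfalso
    obtain ⟨D, hD, rfl⟩ := h
    exact not_decomp hD.decomp inf_le_left hRLc habs.1
  · exfalso
    obtain ⟨-, D, hD, -, rfl⟩ := h
    exact not_decomp hD inf_le_left hRLc habs.1
  · exfalso
    obtain ⟨K, hK, -, -, rfl⟩ := h
    exact not_field h2 hK inf_le_left hRLc habs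
  · exfalso
    obtain ⟨-, K, hK, -, -, rfl⟩ := h
    exact not_field h2 hK inf_le_left hRLc habs
  · exfalso
    obtain ⟨F₀, r, P, ζ, hr, hcr, -, -, rfl⟩ := h
    rw [hc] at hcr
    rw [hcr] at hp
    exact hr.ne_one hp.eq_one_of_pow
  · -- the same type
    obtain ⟨p', R', hp', hc', hR', habs', hsim', h32', hz', hm', rfl⟩ := h
    have B' := base_of h2 hR' habs' h32' hz' hm'
    obtain ⟨t', fr'⟩ := B'.exists_frame
    have hLn : ∀ g ∈ subgroupNormalizer R' ⊓ spGL 2 F, ∀ x ∈ R', g * x * g⁻¹ ∈ R' := fun g hg x hx =>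
      (Subgroup.mem_normalizer_iff.1 hg.1 x).1 hx
    have : Fact (Nat.Prime 5) := ⟨by norm_num⟩
    obtain ⟨g, hg⟩ := exists_prime_orderOf_dvd_card' (G := M) 5 ((by norm_num : 5 ∣ 1920).trans hdvd)
    have hgM : (g : GL I4 F) ∈ M := g.2
    have hgN : (g : GL I4 F) ∈ Subgroup.normalizer (R : Set (GL I4 F)) := by
      have h1 : (g : GL I4 F) ∈ subgroupNormalizer R ⊓ spGL 2 F := by rw [hMdef]; exact hgM
      exact h1.1
    have hcore := core_eq fr' hLn (fun g hg h => cent_frame fr' habs' hg.2 h) hRL h32 (hML hgM)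
      (by rw [Subgroup.orderOf_coe]; exact hg) hgN
    apply le_antisymm hML
    rw [← hMdef]
    exact fun l hl => ⟨mem_normalizer_of (hcore l hl), hl.2⟩
  · exfalso
    obtain ⟨P, p', hcore, hp', hchar, h⟩ := h
    rcases h with ⟨⟨e⟩, hcF, h5, h7⟩ | ⟨⟨e⟩, h7⟩ | ⟨⟨e⟩, h5, h7⟩
    · have h1 := hMLc.trans (H753.ResCard.card_A6 hLsp hcore e)
      exact absurd h1 (by norm_num)
    · have h1 := hMLc.trans (H753.ResCard.card_A7 hLsp hcore e)
      exact absurd h1 (by norm_num)
    · have h1 := H753.ResCard.card_L2 (p := p) (f := 1) hp (by rw [hc, pow_one]) hodd (by omega) hLsp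
        hcore e
      rw [Nat.card_eq_fintype_card (α := F), mul_one] at h1
      exact not_L2 h2 hcore e B hRL h1

end main

end Cfsg.Agent.H97.Sp4Ext
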