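import Cfsg.Agent.H97.FpfMain
import Cfsg.Agent.H80.Fpf.RowL2
import Cfsg.Agent.H700.FpfPsu.Main

/-!
# S4228: the rows of `PΩ_{2m+1}(q)` and `PΩ^-_{2m}(q)`
-/

set_option autoImplicit false

namespace Cfsg.Agent.H97.FpfO

open Cfsg.Agent.H80.Fpf

theorem row_odd {F : Type} [Field F] [Fintype F] (m : ℕ) (hm : 3 ≤ m) (hodd : Odd (Fintype.card F)) :
    Row (Cfsg.POmega F (Cfsg.quadFormOdd m F)) :=
  row_odd_of (fun K _ _ hK => row_psl2 hK) (fun K _ _ n q hK hn h3 => Cfsg.Agent.H700.FpfPsu.row_psu n q hK hn h3)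
    m hm hodd

theorem row_minus {F : Type} [Field F] [Fintype F] (m : ℕ) (hm : 4 ≤ m) (a b : F)
    (hab : ∀ z₁ z₂ : F, z₁ ^ 2 + a * z₁ * z₂ + b * z₂ ^ 2 = 0 → z₁ = 0 ∧ z₂ = 0) :
    Row (Cfsg.POmega F (Cfsg.quadFormMinus (m - 1) F a b)) :=
  row_minus_of (fun K _ _ hK => row_psl2 hK) (fun K _ _ n q hK hn h3 => Cfsg.Agent.H700.FpfPsu.row_psu n q hK hn h3)
    m hm a b hab

end Cfsg.Agent.H97.FpfO
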