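import Cfsg.Agent.H97.SpSubTwo
import Cfsg.Agent.H930.TTrans
import Cfsg.Agent.H931.SpProper
import Cfsg.Agent.H909.Sp4List
import Cfsg.Agent.H955.Sp

/-!
# Subfield subgroups of `Sp₄(q)`, `q` odd (task 603, for S5786)

* `card_T6_dvd` : the order of a subfield subgroup.
* `T6_trace` : the squares of the traces lie in the subfield.
* `part6` : subfield subgroups are maximal.
-/

set_option autoImplicit false
set_option linter.unusedVariables false
set_option linter.unusedSectionVars false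
open Cfsg
open scoped Matrix
open Cfsg.Agent.ClassicalGeometry.SympBasic Cfsg.Agent.ClassicalGeometry.SympSiegel
open Cfsg.Agent.H875
open Cfsg.Agent.H930 (rv rv_add rv_smul rv_zero rv_injective)

namespace Cfsg.Agent.H97.Sp4Sub

universe u

section Rat

variable {F : Type u} [Field F] {m : ℕ}

local notation "V" => (Fin m ⊕ Fin m → F)
local notation "G" => Matrix.symplecticGroup (Fin m) F
local notation "f" => sympForm m F

variable {ζ : F} {F₀ : Subfield F} {P : Matrix.GeneralLinearGroup (Fin m ⊕ Fin m) F}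

/-- the parametrisation of the rational vectors -/
def rvL (F₀ : Subfield F) (P : Matrix.GeneralLinearGroup (Fin m ⊕ Fin m) F) :
    (Fin m ⊕ Fin m → F₀) →ₗ[F₀] (Fin m ⊕ Fin m → F) where
  toFun := rv F₀ P
  map_add' := rv_add P
  map_smul' := rv_smul P

/-- the rational vectors -/
def V0 (F₀ : Subfield F) (P : Matrix.GeneralLinearGroup (Fin m ⊕ Fin m) F) :
    Submodule F₀ (Fin m ⊕ Fin m → F) := LinearMap.range (rvL F₀ P)

theorem mem_V0 {v : V} : v ∈ V0 F₀ P ↔ ∃ u, rv F₀ P u = v := Iff.rfl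

theorem rv_mem_V0 (u : Fin m ⊕ Fin m → F₀) : rv F₀ P u ∈ V0 F₀ P := ⟨u, rfl⟩

theorem ratStr (hζ : ζ ≠ 0) (hP : Cfsg.Geo.IsFormRationalStructure f F₀ ζ P) :
    RatStr F₀ ζ (V0 F₀ P) := by
  refine ⟨hζ, ?_, ?_⟩
  · rintro _ ⟨u, rfl⟩ _ ⟨v, rfl⟩
    exact hP _ _ (fun i => (u i).2) (fun i => (v i).2)
  · intro v hv
    apply eq_zero_of_forall_sympForm_right
    intro w
    -- `w` is a combination of the columns of `P`
    have h1 : w = ∑ j, ((((P⁻¹ : Matrix.GeneralLinearGroup (Fin m ⊕ Fin m) F) :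
        Matrix (Fin m ⊕ Fin m) (Fin m ⊕ Fin m) F).mulVec w) j) •
        rv F₀ P (Pi.single j 1) := by
      have h2 : ∀ j, rv F₀ P (Pi.single j 1) =
          (P : Matrix (Fin m ⊕ Fin m) (Fin m ⊕ Fin m) F).mulVec (Pi.single j 1) := by
        intro j
        rw [rv, Cfsg.Agent.H873.Sub.cv_single]
      simp only [h2]
      have h3 : ∀ x : Fin m ⊕ Fin m → F,
          (P : Matrix (Fin m ⊕ Fin m) (Fin m ⊕ Fin m) F).mulVec x =
          ∑ j, x j • (P : Matrix (Fin m ⊕ Fin m) (Fin m ⊕ Fin m) F).mulVec (Pi.single j 1) := by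
        intro x
        have h4 : x = ∑ j, x j • (Pi.single j (1 : F) : Fin m ⊕ Fin m → F) := by
          funext i
          simp [Finset.sum_apply, Pi.single_apply]
        conv_lhs => rw [h4]
        rw [← Matrix.toLin'_apply, map_sum]
        simp only [map_smul, Matrix.toLin'_apply]
      rw [← h3, Matrix.mulVec_mulVec, ← Units.val_mul, mul_inv_cancel, Units.val_one,
        Matrix.one_mulVec]
    rw [h1, form_sum_right]
    apply Finset.sum_eq_zero
    intro j _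
    rw [sympForm_smul_right, hv (rv F₀ P (Pi.single j 1)) ⟨_, rfl⟩, mul_zero]

theorem finrank_V0 : Module.finrank F₀ (V0 F₀ P) = m + m := by
  have h1 : Module.finrank F₀ (V0 F₀ P) = Module.finrank F₀ (Fin m ⊕ Fin m → F₀) :=
    LinearMap.finrank_range_of_inj (rv_injective P)
  rw [h1, Module.finrank_fintype_fun_eq_card, Fintype.card_sum, Fintype.card_fin]

theorem subfield_ne_top [Fintype F] {r : ℕ} (hr : r.Prime)
    (hcard : Fintype.card F = Nat.card F₀ ^ r) : F₀ ≠ ⊤ := by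
  rintro rfl
  have h1 : Nat.card (⊤ : Subfield F) = Fintype.card F := by
    rw [← Nat.card_eq_fintype_card]
    exact Nat.card_congr (Subfield.topEquiv : (⊤ : Subfield F) ≃+* F).toEquiv
  rw [h1] at hcard
  have h2 : 1 < Fintype.card F := Fintype.one_lt_card
  have h3 : Fintype.card F ^ 1 < Fintype.card F ^ r := Nat.pow_lt_pow_right h2 hr.one_lt
  rw [pow_one] at h3
  omega

/-- Subfield subgroups are maximal, odd characteristic, dimension at least four. -/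
theorem maximal_of_odd [Fintype F] (hm : 2 ≤ m) (h2 : (2 : F) ≠ 0) (h3 : 3 ≤ Fintype.card F)
    {r : ℕ} (hr : r.Prime)
    (hcard : Fintype.card F = Nat.card F₀ ^ r) (hζ : ζ ≠ 0)
    (hP : Cfsg.Geo.IsFormRationalStructure f F₀ ζ P) :
    Cfsg.Geo.IsMaximalIn (Cfsg.spGL m F) (Cfsg.Geo.subfieldSubgroup F₀ P ⊓ Cfsg.spGL m F) := by
  classical
  have hF₀ : F₀ ≠ ⊤ := subfield_ne_top hr hcard
  have hrat := ratStr hζ hP
  have hdim : Module.finrank F₀ (V0 F₀ P) = m + m := finrank_V0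
  apply isMaximalIn_of
  · by_contra hcon
    push Not at hcon
    apply Cfsg.Agent.H931.spGL_not_le_subfieldSubgroup (by omega : 1 ≤ m) (by
      rcases Nat.lt_or_ge 2 m with h | h
      · exact Or.inl (by omega)
      · exact Or.inr (Or.inl ⟨by omega, h3⟩)) hF₀ P
    rw [← toGL_range]
    rintro _ ⟨g, rfl⟩
    exact hcon g
  · intro M hKM ⟨g, hgM, hg⟩
    have hM : ∀ g : Matrix.symplecticGroup (Fin m) F,
        (∀ v ∈ V0 F₀ P, g • v ∈ V0 F₀ P) → g ∈ M := by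
      intro g hg
      apply hKM
      apply Cfsg.Agent.H930.mem_subfieldSubgroup_of_rat
      intro u
      obtain ⟨w, hw⟩ := hg _ ⟨u, rfl⟩
      exact ⟨w, hw.symm⟩
    -- an irrational image
    obtain ⟨u, hu⟩ : ∃ u : Fin m ⊕ Fin m → F₀, ∀ (l : F) (w : Fin m ⊕ Fin m → F₀),
        g • rv F₀ P u ≠ l • rv F₀ P w := by
      by_contra hcon
      push Not at hcon
      apply hg
      apply Cfsg.Agent.H930.mem_subfieldSubgroup_of_lines
      · rw [Fintype.card_sum, Fintype.card_fin]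
        omega
      · exact hcon
    have hirr : ∀ (a : F), ∀ w ∈ V0 F₀ P, g • rv F₀ P u ≠ a • w := by
      rintro a _ ⟨w, rfl⟩
      exact hu a w
    have hTu : ∀ c ∈ F₀, TT ζ (g • rv F₀ P u) c ∈ M := by
      intro c hc
      rw [← conj_TT]
      exact M.mul_mem (M.mul_mem hgM (hM _ (TT_mem_of_rat hrat ⟨u, rfl⟩ hc))) (M.inv_mem hgM)
    have hgoal : Goal ζ F₀ (V0 F₀ P) M :=
      SpSubTwo.odd_step h2 hrat (by omega) hM hTu hirr
    exact eq_top_of_full (SpSubTwo.full_of_goal h2 hrat (by omega) hr hcard hM hgoal)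

/-! ### The scalar of an element -/

theorem two_mem : (2 : F) ∈ F₀ := by
  have : (1 : F) + 1 ∈ F₀ := F₀.add_mem F₀.one_mem F₀.one_mem
  convert this using 1
  norm_num

/-- an element of the subfield group maps rational vectors to multiples of rational vectors. -/
theorem exists_scalar {g : Matrix.GeneralLinearGroup (Fin m ⊕ Fin m) F}
    (hg : g ∈ Cfsg.Geo.subfieldSubgroup F₀ P) :
    ∃ d : F, d ≠ 0 ∧ (∀ i j, d * ((P⁻¹ * g * P : Matrix.GeneralLinearGroup (Fin m ⊕ Fin m) F) :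
      Matrix (Fin m ⊕ Fin m) (Fin m ⊕ Fin m) F) i j ∈ F₀) ∧
      ∀ v ∈ V0 F₀ P, d • ((g : Matrix (Fin m ⊕ Fin m) (Fin m ⊕ Fin m) F) *ᵥ v) ∈ V0 F₀ P := by
  obtain ⟨d, hd, h⟩ := Cfsg.Agent.H930.mem_subfieldSubgroup_iff.1 hg
  refine ⟨d, hd, h, ?_⟩
  rintro _ ⟨u, rfl⟩
  refine ⟨fun i => ∑ j, (⟨_, h i j⟩ : F₀) * u j, ?_⟩
  change rv F₀ P _ = d • ((g : Matrix (Fin m ⊕ Fin m) (Fin m ⊕ Fin m) F) *ᵥ (rv F₀ P u))
  have e : (g : Matrix (Fin m ⊕ Fin m) (Fin m ⊕ Fin m) F) *ᵥ (rv F₀ P u) =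
      (P : Matrix (Fin m ⊕ Fin m) (Fin m ⊕ Fin m) F) *ᵥ
      (((P⁻¹ * g * P : Matrix.GeneralLinearGroup (Fin m ⊕ Fin m) F) :
      Matrix (Fin m ⊕ Fin m) (Fin m ⊕ Fin m) F) *ᵥ Cfsg.Agent.H873.Sub.cv F₀ u) := by
    rw [rv, Matrix.mulVec_mulVec, Matrix.mulVec_mulVec, ← Units.val_mul, ← Units.val_mul]
    have e1 : P * (P⁻¹ * g * P) = g * P := by group
    rw [e1]
  rw [e, ← Matrix.mulVec_smul, rv]
  congr 1
  funext i
  rw [Pi.smul_apply, Matrix.mulVec, dotProduct, smul_eq_mul, Finset.mul_sum,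
    Cfsg.Agent.H873.Sub.cv_apply]
  push_cast
  apply Finset.sum_congr rfl
  intro j _
  rw [Cfsg.Agent.H873.Sub.cv_apply]
  ring

/-- the square of the scalar of an isometry is rational. -/
theorem sq_mem (hm : 1 ≤ m) (hrat : RatStr F₀ ζ (V0 F₀ P))
    {g : Matrix.GeneralLinearGroup (Fin m ⊕ Fin m) F}
    (hg : g ∈ Cfsg.spGL m F) {d : F} (h : ∀ v ∈ V0 F₀ P,
      d • ((g : Matrix (Fin m ⊕ Fin m) (Fin m ⊕ Fin m) F) *ᵥ v) ∈ V0 F₀ P) : d ^ 2 ∈ F₀ := by
  -- two rational vectors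
  obtain ⟨x, hx, hx0⟩ : ∃ x ∈ V0 F₀ P, x ≠ 0 := by
    by_contra hcon
    push Not at hcon
    have h1 : V0 F₀ P = ⊥ := (Submodule.eq_bot_iff _).2 hcon
    have h2 : Module.finrank F₀ (V0 F₀ P) = m + m := finrank_V0
    rw [h1, finrank_bot] at h2
    omega
  obtain ⟨y, hy, hxy⟩ : ∃ y ∈ V0 F₀ P, f x y ≠ 0 := by
    by_contra hc
    push Not at hc
    exact hx0 (hrat.nd x hc)
  have h1 := hrat.val _ (h x hx) _ (h y hy)
  rw [sympForm_smul_left, sympForm_smul_right] at h1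
  have h2 : f ((g : Matrix (Fin m ⊕ Fin m) (Fin m ⊕ Fin m) F) *ᵥ x)
      ((g : Matrix (Fin m ⊕ Fin m) (Fin m ⊕ Fin m) F) *ᵥ y) = f x y := hg x y
  rw [h2] at h1
  have h3 := F₀.div_mem h1 (hrat.val x hx y hy)
  convert h3 using 1
  have := hrat.ne
  field_simp

/-- the squares of the traces are rational. -/
theorem trace_sq_mem (hm : 1 ≤ m) (hrat : RatStr F₀ ζ (V0 F₀ P))
    {g : Matrix.GeneralLinearGroup (Fin m ⊕ Fin m) F}
    (hg : g ∈ Cfsg.Geo.subfieldSubgroup F₀ P) (hg' : g ∈ Cfsg.spGL m F) :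
    (g : Matrix (Fin m ⊕ Fin m) (Fin m ⊕ Fin m) F).trace ^ 2 ∈ F₀ := by
  obtain ⟨d, hd, h1, h2⟩ := exists_scalar hg
  have h3 := sq_mem hm hrat hg' h2
  have h4 : d * (g : Matrix (Fin m ⊕ Fin m) (Fin m ⊕ Fin m) F).trace ∈ F₀ := by
    have e : (g : Matrix (Fin m ⊕ Fin m) (Fin m ⊕ Fin m) F).trace =
        (((P⁻¹ * g * P : Matrix.GeneralLinearGroup (Fin m ⊕ Fin m) F) :
      Matrix (Fin m ⊕ Fin m) (Fin m ⊕ Fin m) F)).trace := by
      rw [Units.val_mul, Units.val_mul, Matrix.trace_mul_cycle, ← Units.val_mul, ← Units.val_mul]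
      congr 2
      group
    rw [e, Matrix.trace, Finset.mul_sum]
    exact F₀.sum_mem fun i _ => h1 i i
  have h5 : (d * (g : Matrix (Fin m ⊕ Fin m) (Fin m ⊕ Fin m) F).trace) ^ 2 / d ^ 2 ∈ F₀ :=
    F₀.div_mem (F₀.pow_mem h4 2) h3
  convert h5 using 1
  field_simp

/-- the subgroup of the isometries preserving the rational vectors -/
def RS (F₀ : Subfield F) (P : Matrix.GeneralLinearGroup (Fin m ⊕ Fin m) F) [Finite F] :
    Subgroup (Matrix.GeneralLinearGroup (Fin m ⊕ Fin m) F) where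
  carrier := {g | g ∈ Cfsg.spGL m F ∧ ∀ v, (g : Matrix (Fin m ⊕ Fin m) (Fin m ⊕ Fin m) F) *ᵥ v ∈ V0 F₀ P ↔
    v ∈ V0 F₀ P}
  one_mem' := ⟨(Cfsg.spGL m F).one_mem, fun v => by rw [Units.val_one, Matrix.one_mulVec]⟩
  mul_mem' {a b} ha hb := ⟨(Cfsg.spGL m F).mul_mem ha.1 hb.1, fun v => by
    rw [Units.val_mul, ← Matrix.mulVec_mulVec, ha.2, hb.2]⟩
  inv_mem' {a} ha := ⟨(Cfsg.spGL m F).inv_mem ha.1, fun v => by
    rw [← ha.2, Matrix.mulVec_mulVec, ← Units.val_mul, mul_inv_cancel, Units.val_one,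
      Matrix.one_mulVec]⟩

theorem mem_RS_of [Finite F] {g : Matrix.GeneralLinearGroup (Fin m ⊕ Fin m) F}
    (hg : g ∈ Cfsg.spGL m F)
    (h : ∀ v ∈ V0 F₀ P, (g : Matrix (Fin m ⊕ Fin m) (Fin m ⊕ Fin m) F) *ᵥ v ∈ V0 F₀ P) :
    g ∈ RS F₀ P := by
  refine ⟨hg, fun v => ⟨fun hv => ?_, h v⟩⟩
  -- injective map of the finite set of rational vectors
  have hinj : Function.Injective (fun w : V0 F₀ P =>
      (⟨(g : Matrix (Fin m ⊕ Fin m) (Fin m ⊕ Fin m) F) *ᵥ (w : V), h w w.2⟩ : V0 F₀ P)) := by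
    intro a b hab
    apply Subtype.ext
    have h1 := congrArg (fun x : V0 F₀ P => ((g⁻¹ : Matrix.GeneralLinearGroup (Fin m ⊕ Fin m) F) :
      Matrix (Fin m ⊕ Fin m) (Fin m ⊕ Fin m) F) *ᵥ (x : V)) hab
    simpa [Matrix.mulVec_mulVec] using h1
  obtain ⟨w, hw⟩ := (Finite.injective_iff_surjective.1 hinj) ⟨_, hv⟩
  have h1 := congrArg (fun x : V0 F₀ P => ((g⁻¹ : Matrix.GeneralLinearGroup (Fin m ⊕ Fin m) F) :
      Matrix (Fin m ⊕ Fin m) (Fin m ⊕ Fin m) F) *ᵥ (x : V)) hw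
  have h2 : (w : V) = v := by simpa [Matrix.mulVec_mulVec] using h1
  rw [← h2]
  exact w.2

/-- the linear map of the rational vectors given by an element of `RS` -/
def rsLin [Finite F] (g : RS F₀ P) : V0 F₀ P →ₗ[F₀] V0 F₀ P where
  toFun := fun w : V0 F₀ P => (⟨(g.1 : Matrix (Fin m ⊕ Fin m) (Fin m ⊕ Fin m) F) *ᵥ (w : V),
        (g.2.2 (w : V)).2 w.2⟩ : V0 F₀ P)
  map_add' a b := by
    apply Subtype.ext
    exact Matrix.mulVec_add (g.1 : Matrix (Fin m ⊕ Fin m) (Fin m ⊕ Fin m) F) (a : V) (b : V)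
  map_smul' c a := by
    apply Subtype.ext
    exact Matrix.mulVec_smul (g.1 : Matrix (Fin m ⊕ Fin m) (Fin m ⊕ Fin m) F) (c : F) (a : V)

theorem rsLin_bijective [Finite F] (g : RS F₀ P) : Function.Bijective (rsLin g) := by
  rw [← Finite.injective_iff_bijective]
  intro a b hab
  apply Subtype.ext
  have h1 := congrArg (fun x : V0 F₀ P => ((g.1⁻¹ : Matrix.GeneralLinearGroup (Fin m ⊕ Fin m) F) :
      Matrix (Fin m ⊕ Fin m) (Fin m ⊕ Fin m) F) *ᵥ (x : V)) hab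
  change ((g.1⁻¹ : Matrix.GeneralLinearGroup (Fin m ⊕ Fin m) F) :
      Matrix (Fin m ⊕ Fin m) (Fin m ⊕ Fin m) F) *ᵥ
      ((g.1 : Matrix (Fin m ⊕ Fin m) (Fin m ⊕ Fin m) F) *ᵥ (a : V)) =
      ((g.1⁻¹ : Matrix.GeneralLinearGroup (Fin m ⊕ Fin m) F) :
      Matrix (Fin m ⊕ Fin m) (Fin m ⊕ Fin m) F) *ᵥ
      ((g.1 : Matrix (Fin m ⊕ Fin m) (Fin m ⊕ Fin m) F) *ᵥ (b : V)) at h1
  rw [Matrix.mulVec_mulVec, Matrix.mulVec_mulVec, ← Units.val_mul, inv_mul_cancel, Units.val_one,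
    Matrix.one_mulVec, Matrix.one_mulVec] at h1
  exact h1

/-- the action of `RS` on the rational vectors -/
noncomputable def toIso [Finite F] (hrat : RatStr F₀ ζ (V0 F₀ P)) :
    RS F₀ P →* H955.IsoB hrat.form where
  toFun g := ⟨LinearEquiv.ofBijective (rsLin g) (rsLin_bijective g), by
    intro u v
    apply Subtype.ext
    rw [RatStr.form_apply, RatStr.form_apply]
    exact congrArg (ζ * ·) (g.2.1 (u : V) (v : V))⟩
  map_one' := by
    apply Subtype.ext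
    apply LinearEquiv.ext
    intro w
    apply Subtype.ext
    change ((1 : RS F₀ P).1 : Matrix (Fin m ⊕ Fin m) (Fin m ⊕ Fin m) F) *ᵥ (w : V) = w
    rw [Subgroup.coe_one, Units.val_one, Matrix.one_mulVec]
  map_mul' g h := by
    apply Subtype.ext
    apply LinearEquiv.ext
    intro w
    apply Subtype.ext
    change ((g * h : RS F₀ P).1 : Matrix (Fin m ⊕ Fin m) (Fin m ⊕ Fin m) F) *ᵥ (w : V) = _
    rw [Subgroup.coe_mul, Units.val_mul, ← Matrix.mulVec_mulVec]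
    rfl

theorem toIso_apply [Finite F] (hrat : RatStr F₀ ζ (V0 F₀ P)) (g : RS F₀ P) (w : V0 F₀ P) :
    (((toIso hrat g).1 w : V0 F₀ P) : V) =
      (g.1 : Matrix (Fin m ⊕ Fin m) (Fin m ⊕ Fin m) F) *ᵥ (w : V) := rfl

theorem toIso_injective [Finite F] (hrat : RatStr F₀ ζ (V0 F₀ P)) :
    Function.Injective (toIso hrat) := by
  rw [injective_iff_map_eq_one]
  intro g hg
  have h1 : ∀ w ∈ V0 F₀ P, (g.1 : Matrix (Fin m ⊕ Fin m) (Fin m ⊕ Fin m) F) *ᵥ w = w := by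
    intro w hw
    rw [← toIso_apply hrat g ⟨w, hw⟩, hg]
    rfl
  have h2 : ∀ v : V, (g.1 : Matrix (Fin m ⊕ Fin m) (Fin m ⊕ Fin m) F) *ᵥ v = v := by
    intro v
    have h3 : (g.1 : Matrix (Fin m ⊕ Fin m) (Fin m ⊕ Fin m) F) *ᵥ v - v = 0 := by
      apply hrat.nd
      intro u hu
      rw [sympForm_sub_left]
      have h4 : f ((g.1 : Matrix (Fin m ⊕ Fin m) (Fin m ⊕ Fin m) F) *ᵥ v)
        ((g.1 : Matrix (Fin m ⊕ Fin m) (Fin m ⊕ Fin m) F) *ᵥ u) = f v u := g.2.1 v u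
      rw [h1 u hu] at h4
      rw [h4, sub_self]
    exact sub_eq_zero.1 h3
  apply Subtype.ext
  apply Units.ext
  apply Matrix.ext_of_mulVec_single
  intro i
  rw [h2, Subgroup.coe_one, Units.val_one, Matrix.one_mulVec]

theorem isSp_form (hrat : RatStr F₀ ζ (V0 F₀ P)) : H955.IsSp hrat.form :=
  ⟨fun v => by rw [hrat.form_eq_zero, sympForm_self], fun x hx => hrat.nondegenerate.1 x hx⟩

theorem card_RS_dvd [Finite F] (hrat : RatStr F₀ ζ (V0 F₀ P)) :
    Nat.card (RS F₀ P) ∣ Nat.card F₀ ^ (m ^ 2) * ∏ i ∈ Finset.range m,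
      (Nat.card F₀ ^ (2 * (i + 1)) - 1) := by
  rw [← H955.card_IsoB (isSp_form hrat) (m := m) (by rw [finrank_V0]; ring)]
  exact Subgroup.card_dvd_of_injective _ (toIso_injective hrat)

/-- In a finite field the product of two non-squares is a square. -/
theorem isSquare_mul_of_not {K : Type*} [Field K] [Finite K] {a b : K} (ha : ¬ IsSquare a)
    (hb : ¬ IsSquare b) : IsSquare (a * b) := by
  classical
  have := Fintype.ofFinite K
  by_cases h0 : a * b = 0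
  · rw [h0]
    exact IsSquare.zero
  · rw [← quadraticChar_neg_one_iff_not_isSquare] at ha hb
    rw [← quadraticChar_one_iff_isSquare h0, map_mul, ha, hb]
    norm_num

/-- the index of the rational isometries is at most two. -/
theorem card_dvd [Finite F] (hm : 1 ≤ m) (hrat : RatStr F₀ ζ (V0 F₀ P)) :
    Nat.card ↥(Cfsg.Geo.subfieldSubgroup F₀ P ⊓ Cfsg.spGL m F) ∣ 2 * Nat.card (RS F₀ P) := by
  classical
  have hle : RS F₀ P ≤ Cfsg.Geo.subfieldSubgroup F₀ P ⊓ Cfsg.spGL m F := by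
    intro g hg
    refine ⟨?_, hg.1⟩
    apply Cfsg.Agent.H930.mem_subfieldSubgroup_of_rat
    intro u
    obtain ⟨w, hw⟩ := (hg.2 _).2 (rv_mem_V0 (P := P) u)
    exact ⟨w, hw.symm⟩
  set H := Cfsg.Geo.subfieldSubgroup F₀ P ⊓ Cfsg.spGL m F with hH
  -- two elements outside
  have key : ∀ a ∈ H, ∀ b ∈ H, a ∉ RS F₀ P → b ∉ RS F₀ P → b * a ∈ RS F₀ P := by
    intro a ha b hb haR hbR
    obtain ⟨d, hd, -, h1⟩ := exists_scalar ha.1
    obtain ⟨e, he, -, h2⟩ := exists_scalar hb.1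
    have hd2 := sq_mem hm hrat ha.2 h1
    have he2 := sq_mem hm hrat hb.2 h2
    have hdF : d ∉ F₀ := by
      intro hdF
      apply haR
      apply mem_RS_of ha.2
      intro v hv
      have h3 := (V0 F₀ P).smul_mem (⟨_, F₀.inv_mem hdF⟩ : F₀) (h1 v hv)
      change d⁻¹ • (d • _) ∈ V0 F₀ P at h3
      rwa [smul_smul, inv_mul_cancel₀ hd, one_smul] at h3
    have heF : e ∉ F₀ := by
      intro heF
      apply hbR
      apply mem_RS_of hb.2
      intro v hv
      have h3 := (V0 F₀ P).smul_mem (⟨_, F₀.inv_mem heF⟩ : F₀) (h2 v hv)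
      change e⁻¹ • (e • _) ∈ V0 F₀ P at h3
      rwa [smul_smul, inv_mul_cancel₀ he, one_smul] at h3
    -- the product of the scalars is rational
    have hde : e * d ∈ F₀ := by
      have hsq : ∀ c : F, ∀ t : F₀, c ^ 2 = (t : F) * (t : F) → c ∈ F₀ := by
        intro c t h3
        have h4 : (c - t) * (c + t) = 0 := by linear_combination h3
        rcases mul_eq_zero.1 h4 with h5 | h5
        · rw [sub_eq_zero.1 h5]
          exact t.2
        · rw [eq_neg_of_add_eq_zero_left h5]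
          exact F₀.neg_mem t.2
      have s1 : ¬ IsSquare (⟨e ^ 2, he2⟩ : F₀) := by
        rintro ⟨t, ht⟩
        exact heF (hsq e t (congrArg Subtype.val ht))
      have s2 : ¬ IsSquare (⟨d ^ 2, hd2⟩ : F₀) := by
        rintro ⟨t, ht⟩
        exact hdF (hsq d t (congrArg Subtype.val ht))
      obtain ⟨t, ht⟩ := isSquare_mul_of_not s1 s2
      apply hsq _ t
      rw [mul_pow]
      exact congrArg Subtype.val ht
    apply mem_RS_of ((Cfsg.spGL m F).mul_mem hb.2 ha.2)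
    intro v hv
    have h3 := h2 _ (h1 v hv)
    rw [Matrix.mulVec_smul, smul_smul, Matrix.mulVec_mulVec, ← Units.val_mul] at h3
    have h4 := (V0 F₀ P).smul_mem (⟨_, F₀.inv_mem hde⟩ : F₀) h3
    change (e * d)⁻¹ • ((e * d) • _) ∈ V0 F₀ P at h4
    rwa [smul_smul, inv_mul_cancel₀ (mul_ne_zero he hd), one_smul] at h4
  by_cases hall : H ≤ RS F₀ P
  · rw [le_antisymm hall hle]
    exact dvd_mul_left _ _
  · obtain ⟨a, ha, haR⟩ := SetLike.not_le_iff_exists.1 hall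
    have hidx : ((RS F₀ P).subgroupOf H).index = 2 := by
      rw [Subgroup.index_eq_two_iff]
      refine ⟨⟨a, ha⟩, ?_⟩
      rintro ⟨b, hb⟩
      rw [Subgroup.mem_subgroupOf, Subgroup.mem_subgroupOf]
      change Xor (b * a ∈ RS F₀ P) (b ∈ RS F₀ P)
      by_cases hbR : b ∈ RS F₀ P
      · refine Or.inr ⟨hbR, fun h => haR ?_⟩
        have h1 := (RS F₀ P).mul_mem ((RS F₀ P).inv_mem hbR) h
        rwa [inv_mul_cancel_left] at h1
      · exact Or.inl ⟨key a ha b hb haR hbR, hbR⟩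
    rw [← Subgroup.card_mul_index ((RS F₀ P).subgroupOf H), hidx, mul_comm,
      Nat.card_congr (Subgroup.subgroupOfEquivOfLe hle).toEquiv]

end Rat

/-! ### The three results for `Sp₄` -/

section Four

open Cfsg.Geo Cfsg.Agent.H909.Sp4List

variable {F : Type u} [Field F] [Fintype F]

/-- **Order of a subfield subgroup of `Sp₄(q)`.** -/
theorem card_T6_dvd (h2 : (2 : F) ≠ 0) {F₀ : Subfield F} {P : Matrix.GeneralLinearGroup I4 F}
    {ζ : F} (hζ : ζ ≠ 0) (hP : IsFormRationalStructure (sympForm 2 F) F₀ ζ P) :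
    Nat.card ↥(subfieldSubgroup F₀ P ⊓ spGL 2 F) ∣
      2 * (Nat.card F₀ ^ 4 * (Nat.card F₀ ^ 2 - 1) * (Nat.card F₀ ^ 4 - 1)) := by
  have hrat := ratStr hζ hP
  refine (card_dvd (by norm_num) hrat).trans (mul_dvd_mul_left 2 ?_)
  have h1 := card_RS_dvd (P := P) hrat
  rw [Finset.prod_range_succ, Finset.prod_range_succ, Finset.prod_range_zero, one_mul,
    ← mul_assoc] at h1
  exact h1

/-- **Squares of traces in a subfield subgroup of `Sp₄(q)`.** -/
theorem T6_trace (h2 : (2 : F) ≠ 0) {F₀ : Subfield F} {P : Matrix.GeneralLinearGroup I4 F}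
    {ζ : F} (hζ : ζ ≠ 0) (hP : IsFormRationalStructure (sympForm 2 F) F₀ ζ P)
    {g : Matrix.GeneralLinearGroup I4 F} (hg : g ∈ subfieldSubgroup F₀ P ⊓ spGL 2 F) :
    (g : Matrix I4 I4 F).trace ^ 2 ∈ F₀ :=
  trace_sq_mem (by norm_num) (ratStr hζ hP) hg.1 hg.2

/-- **Subfield subgroups of `Sp₄(q)`, `q` odd, are maximal.** -/
theorem part6 (hodd : Odd (Fintype.card F)) (h88 : Res88 F) (F₀ : Subfield F) (r : ℕ)
    (P : Matrix.GeneralLinearGroup I4 F) (ζ : F) (hr : r.Prime)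
    (hc : Fintype.card F = Nat.card F₀ ^ r) (hζ : ζ ≠ 0)
    (hP : IsFormRationalStructure (sympForm 2 F) F₀ ζ P) :
    IsMaximalIn (spGL 2 F) (subfieldSubgroup F₀ P ⊓ spGL 2 F) := by
  have h1 : 1 < Fintype.card F := Fintype.one_lt_card
  have h3 : 3 ≤ Fintype.card F := by
    obtain ⟨k, hk⟩ := hodd
    omega
  have h2 : (2 : F) ≠ 0 := by
    intro h2
    have hchar : CharP F 2 := CharTwo.of_one_ne_zero_of_two_eq_zero one_ne_zero h2
    obtain ⟨n, -, hn⟩ := FiniteField.card F 2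
    rw [hn] at hodd
    exact (Nat.not_odd_iff_even.2 (Nat.even_pow.2 ⟨even_two, n.ne_zero⟩)) hodd
  exact maximal_of_odd le_rfl h2 h3 hr hc hζ hP

end Four

end Cfsg.Agent.H97.Sp4Sub
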