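import Cfsg.Agent.H97.CliffFrame

/-!
# The action on the five pairs of involutions
-/

set_option autoImplicit false
set_option linter.unusedSectionVars false
set_option warn.classDefReducibility false

namespace Cfsg.Agent.H97.Cliff

variable {G : Type*} [Group G] [HasDistribNeg G] {R : Subgroup G} {t : Fin 5 → G}

/-- equality up to sign -/
def Pm (x y : G) : Prop := x = y ∨ x = -y

theorem Pm.refl (x : G) : Pm x x := Or.inl rfl

theorem Pm.symm {x y : G} (h : Pm x y) : Pm y x := by
  rcases h with rfl | rfl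
  · exact Or.inl rfl
  · exact Or.inr (by rw [neg_neg])

theorem Pm.trans {x y z : G} (h : Pm x y) (h' : Pm y z) : Pm x z := by
  rcases h with rfl | rfl <;> rcases h' with rfl | rfl
  · exact Or.inl rfl
  · exact Or.inr rfl
  · exact Or.inr rfl
  · exact Or.inl (by rw [neg_neg])

theorem Pm.conj {x y : G} (h : Pm x y) (g : G) : Pm (g * x * g⁻¹) (g * y * g⁻¹) := by
  rcases h with rfl | rfl
  · exact Or.inl rfl
  · exact Or.inr (by simp)

theorem Frame.comm_ne (fr : Frame R t) {i j : Fin 5} (hij : i ≠ j) : t i * t j ≠ t j * t i := by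
  intro h
  have h1 := fr.anti i j hij
  rw [h] at h1
  exact ne_neg fr.ne _ h1

theorem Frame.pm_unique (fr : Frame R t) {i j : Fin 5} (h : Pm (t i) (t j)) : i = j := by
  by_contra hij
  apply fr.comm_ne hij
  rcases h with h | h
  · rw [h]
  · rw [h]; simp

theorem Frame.exists_index (fr : Frame R t) {g : G} (hg : ∀ x ∈ R, g * x * g⁻¹ ∈ R) (i : Fin 5) :
    ∃ j, Pm (g * t i * g⁻¹) (t j) := by
  have h1 : (g * t i * g⁻¹) * (g * t i * g⁻¹) = 1 := by
    have : (g * t i * g⁻¹) * (g * t i * g⁻¹) = g * (t i * t i) * g⁻¹ := by group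
    rw [this, fr.sq, mul_one, mul_inv_cancel]
  have hi : ∃ j, i ≠ j := by
    by_cases h : i = 0
    · exact ⟨1, by rw [h]; decide⟩
    · exact ⟨0, h⟩
  obtain ⟨j, hij⟩ := hi
  rcases fr.inv _ (hg _ (fr.mem i)) h1 with h | h | ⟨j, h⟩
  · exfalso
    have h2 : t i = 1 := by
      have : t i = g⁻¹ * (g * t i * g⁻¹) * g := by group
      rw [this, h]; simp
    exact fr.comm_ne hij (by rw [h2]; simp)
  · exfalso
    have h2 : t i = -1 := by
      have : t i = g⁻¹ * (g * t i * g⁻¹) * g := by group
      rw [this, h]; simp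
    exact fr.comm_ne hij (by rw [h2]; simp)
  · exact ⟨j, h⟩

section act

variable (fr : Frame R t) {H : Subgroup G} (hH : ∀ g ∈ H, ∀ x ∈ R, g * x * g⁻¹ ∈ R)

/-- the index of the image pair -/
noncomputable def idx (g : H) (i : Fin 5) : Fin 5 := (fr.exists_index (hH g g.2) i).choose

theorem idx_spec (g : H) (i : Fin 5) : Pm ((g : G) * t i * (g : G)⁻¹) (t (idx fr hH g i)) :=
  (fr.exists_index (hH g g.2) i).choose_spec

theorem idx_eq {g : H} {i j : Fin 5} (h : Pm ((g : G) * t i * (g : G)⁻¹) (t j)) : idx fr hH g i = j :=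
  fr.pm_unique ((idx_spec fr hH g i).symm.trans h)

/-- the action on the five pairs -/
noncomputable def actM : MulAction H (Fin 5) where
  smul g i := idx fr hH g i
  one_smul i := idx_eq fr hH (by simp [Pm])
  mul_smul g h i := idx_eq fr hH (by
    have h1 := (idx_spec fr hH h i).conj (g : G)
    have h2 := idx_spec fr hH g (idx fr hH h i)
    have h3 : ((g * h : H) : G) * t i * ((g * h : H) : G)⁻¹ = g * (h * t i * (h : G)⁻¹) * (g : G)⁻¹ := by
      rw [Subgroup.coe_mul]; group
    rw [h3]
    exact h1.trans h2)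

/-- the permutation representation on the five pairs -/
noncomputable def phi : H →* Equiv.Perm (Fin 5) :=
  letI := actM fr hH
  MulAction.toPermHom H (Fin 5)

theorem phi_apply (g : H) (i : Fin 5) : phi fr hH g i = idx fr hH g i := rfl

theorem phi_spec (g : H) (i : Fin 5) : Pm ((g : G) * t i * (g : G)⁻¹) (t (phi fr hH g i)) :=
  idx_spec fr hH g i

theorem phi_eq {g : H} {i j : Fin 5} (h : Pm ((g : G) * t i * (g : G)⁻¹) (t j)) :
    phi fr hH g i = j := idx_eq fr hH h

theorem mem_ker_iff {g : H} : g ∈ (phi fr hH).ker ↔ ∀ i, Pm ((g : G) * t i * (g : G)⁻¹) (t i) := by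
  rw [MonoidHom.mem_ker]
  constructor
  · intro h i
    have := phi_spec fr hH g i
    rwa [h] at this
  · intro h
    ext i
    rw [phi_eq fr hH (h i)]
    rfl

open Classical in
/-- the signs of an element of the kernel -/
noncomputable def psi : (phi fr hH).ker →* (Fin 4 → ℤˣ) where
  toFun g i := if ((g : H) : G) * t i.castSucc * ((g : H) : G)⁻¹ = t i.castSucc then 1 else -1
  map_one' := by
    funext i
    simp
  map_mul' g h := by
    funext i
    have h1 := (mem_ker_iff fr hH).1 g.2 i.castSucc
    have h2 := (mem_ker_iff fr hH).1 h.2 i.castSucc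
    have h3 : (((g * h : (phi fr hH).ker) : H) : G) * t i.castSucc *
        (((g * h : (phi fr hH).ker) : H) : G)⁻¹ =
        ((g : H) : G) * (((h : H) : G) * t i.castSucc * ((h : H) : G)⁻¹) * ((g : H) : G)⁻¹ := by
      rw [Subgroup.coe_mul, Subgroup.coe_mul]; group
    have hn := ne_neg fr.ne (t i.castSucc)
    rw [Pi.mul_apply, h3]
    rcases h1 with h1 | h1 <;> rcases h2 with h2 | h2
    · simp [h1, h2]
    · simp [h1, h2, hn.symm]
    · simp [h1, h2, hn.symm]
    · simp [h1, h2, hn.symm]

theorem mem_psi_ker {g : (phi fr hH).ker} (hg : g ∈ (psi fr hH).ker) (i : Fin 5) :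
    ((g : H) : G) * t i = t i * ((g : H) : G) := by
  classical
  have h1 : ∀ i : Fin 4, ((g : H) : G) * t i.castSucc * ((g : H) : G)⁻¹ = t i.castSucc := by
    intro i
    have h2 := congrFun (MonoidHom.mem_ker.1 hg) i
    by_contra hcon
    have h3 : psi fr hH g i = -1 := if_neg hcon
    rw [h3, Pi.one_apply] at h2
    have h4 : (-1 : ℤˣ) = 1 := h2
    exact absurd h4 (by decide)
  have h2 : ∀ i : Fin 4, ((g : H) : G) * t i.castSucc = t i.castSucc * ((g : H) : G) := fun i =>
    mul_inv_eq_iff_eq_mul.1 (h1 i)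
  induction i using Fin.lastCases with
  | cast i => exact h2 i
  | last =>
    have e : t (Fin.last 4) = t (Fin.castSucc 0) * t (Fin.castSucc 1) * t (Fin.castSucc 2) *
      t (Fin.castSucc 3) := fr.prod
    rw [e]
    simp only [mul_assoc, h2, as1 (h2 _)]

/-- the order of the kernel -/
theorem card_ker_dvd [Finite H] (hc : ∀ g ∈ H, (∀ i, g * t i = t i * g) → g = 1 ∨ g = -1) :
    Nat.card (phi fr hH).ker ∣ 32 := by
  rw [← Subgroup.card_mul_index (psi fr hH).ker, Subgroup.index_ker]
  have h1 : Nat.card (psi fr hH).ker ∣ 2 := by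
    have h2 : Nat.card (psi fr hH).ker ≤ 2 := by
      let s : Set G := {1, -1}
      have hs : s.ncard ≤ 2 := by
        refine (Set.ncard_insert_le _ _).trans ?_
        rw [Set.ncard_singleton]
      let f : (psi fr hH).ker → s := fun g => ⟨((g : (phi fr hH).ker) : H), by
        rcases hc _ ((g : (phi fr hH).ker) : H).2 (mem_psi_ker fr hH g.2) with h | h
        · exact Or.inl h
        · exact Or.inr h⟩
      have hf : Function.Injective f := by
        intro a b hab
        apply Subtype.ext
        apply Subtype.ext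
        apply Subtype.ext
        have h9 := congrArg Subtype.val hab
        exact h9
      exact (Nat.card_le_card_of_injective f hf).trans hs
    have h3 : 0 < Nat.card (psi fr hH).ker := Nat.card_pos
    interval_cases h : Nat.card (psi fr hH).ker <;> norm_num
  have h4 : Nat.card (psi fr hH).range ∣ 16 := by
    have h5 := Subgroup.card_subgroup_dvd_card (psi fr hH).range
    have h6 : Nat.card (Fin 4 → ℤˣ) = 16 := by simp
    rwa [h6] at h5
  exact Nat.mul_dvd_mul h1 h4

include fr hH in
theorem card_dvd_of_frame [Finite H] (hc : ∀ g ∈ H, (∀ i, g * t i = t i * g) → g = 1 ∨ g = -1) :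
    Nat.card H ∣ 3840 := by
  rw [← Subgroup.card_mul_index (phi fr hH).ker, Subgroup.index_ker]
  have h1 := card_ker_dvd fr hH hc
  have h2 : Nat.card (phi fr hH).range ∣ 120 := by
    have h5 := Subgroup.card_subgroup_dvd_card (phi fr hH).range
    rw [Nat.card_perm, Nat.card_fin] at h5
    exact h5
  exact Nat.mul_dvd_mul h1 h2

end act

end Cfsg.Agent.H97.Cliff
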