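import Cfsg.Agent.H97.CliffFrame
import Cfsg.Agent.H921.SympDim

/-!
# The groups `2^{1+4}_-` of the sixth class satisfy `Base`
-/

set_option autoImplicit false
set_option linter.unusedSectionVars false

namespace Cfsg.Agent.H97.Cliff

open Cfsg Cfsg.Geo Matrix

section minus

variable {G : Type*} [Group G] [HasDistribNeg G] {R : Subgroup G}

theorem minus_of [Finite R] (hp : IsPGroup 2 R) (hm : IsOfMinusType 2 R) (hneg : -1 ∈ R)
    (hne : (1 : G) ≠ -1) : ∀ x ∈ R, ∀ y ∈ R, x * x = 1 → y * y = 1 → x * y = y * x →
    x = 1 ∨ x = -1 ∨ y = 1 ∨ y = -1 ∨ y = x ∨ y = -x := by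
  classical
  intro x hx y hy hxx hyy hxy
  by_contra hcon
  push Not at hcon
  obtain ⟨hx1, hx2, hy1, hy2, hyx1, hyx2⟩ := hcon
  let S : Set R := {⟨x, hx⟩, ⟨y, hy⟩, ⟨-1, hneg⟩}
  let A : Subgroup R := Subgroup.closure S
  have hcomm : IsMulCommutative A := by
    apply Subgroup.isMulCommutative_closure
    rintro u (rfl | rfl | rfl) v (rfl | rfl | rfl) <;>
      first
      | rfl
      | exact Subtype.ext hxy
      | exact Subtype.ext hxy.symm
      | (apply Subtype.ext; simp)
  have hsq : ∀ u ∈ A, u * u = 1 := by
    intro u hu
    induction hu using Subgroup.closure_induction with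
    | mem u hu =>
      rcases hu with rfl | rfl | rfl
      · exact Subtype.ext hxx
      · exact Subtype.ext hyy
      · exact Subtype.ext (by simp)
    | one => simp
    | mul u v hu hv h1 h2 =>
      have h3 : u * v = v * u := by
        have := hcomm.is_comm.comm ⟨u, hu⟩ ⟨v, hv⟩
        exact congrArg Subtype.val this
      calc u * v * (u * v) = u * (v * u) * v := by group
        _ = u * (u * v) * v := by rw [h3]
        _ = (u * u) * (v * v) := by group
        _ = 1 := by rw [h1, h2, one_mul]
    | inv u hu h => rw [← _root_.mul_inv_rev, h, inv_one]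
  have h8 := hm A hcomm hsq
  obtain ⟨n, hn⟩ := (hp.to_subgroup A).exists_card_eq
  have hxA : (⟨x, hx⟩ : R) ∈ A := Subgroup.subset_closure (by simp [S])
  have hyA : (⟨y, hy⟩ : R) ∈ A := Subgroup.subset_closure (by simp [S])
  have hnA : (⟨-1, hneg⟩ : R) ∈ A := Subgroup.subset_closure (by simp [S])
  have h5 : 5 ≤ Nat.card A := by
    let f : Fin 5 → A := ![1, ⟨_, hnA⟩, ⟨_, hxA⟩, ⟨_, A.mul_mem hnA hxA⟩, ⟨_, hyA⟩]
    have hf : Function.Injective f := by
      have h1 : ∀ i, ((f i : R) : G) = (![1, -1, x, -x, y] : Fin 5 → G) i := by
        intro i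
        fin_cases i <;> simp [f]
      have h2 : Function.Injective (![1, -1, x, -x, y] : Fin 5 → G) := by
        have hxn : x ≠ -x := ne_neg hne x
        have hx3 : -x ≠ 1 := fun h => hx2 (by rw [← h, neg_neg])
        have hx4 : -x ≠ -1 := fun h => hx1 (neg_injective h)
        intro i j hij
        fin_cases i <;> fin_cases j <;> first
          | rfl
          | exact absurd hij hne
          | exact absurd hij.symm hne
          | exact absurd hij hx1
          | exact absurd hij.symm hx1
          | exact absurd hij hx2
          | exact absurd hij.symm hx2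
          | exact absurd hij hx3
          | exact absurd hij.symm hx3
          | exact absurd hij hx4
          | exact absurd hij.symm hx4
          | exact absurd hij hy1
          | exact absurd hij.symm hy1
          | exact absurd hij hy2
          | exact absurd hij.symm hy2
          | exact absurd hij hxn
          | exact absurd hij.symm hxn
          | exact absurd hij hyx1
          | exact absurd hij.symm hyx1
          | exact absurd hij hyx2
          | exact absurd hij.symm hyx2
      intro i j hij
      apply h2
      rw [← h1, ← h1, hij]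
    have := Nat.card_le_card_of_injective f hf
    simpa using this
  rw [hn] at h5 h8
  have h9 : n < 3 := by
    by_contra h
    have := Nat.pow_le_pow_right (n := 2) (by norm_num) (not_lt.1 h)
    norm_num at h8
    omega
  interval_cases n <;> omega

end minus

variable {ι : Type} [Fintype ι] [DecidableEq ι] {F : Type*} [Field F] {R : Subgroup (GL ι F)}

theorem base_of [Nonempty ι] [Finite F] (h2 : (2 : F) ≠ 0) (hR : IsSymplecticTypeGroup 2 R)
    (habs : ActsAbsolutelyIrreducibly (matrixSet R)) (h32 : Nat.card R = 32)
    (hz : Nat.card (Subgroup.center R) = 2) (hm : IsOfMinusType 2 R) : Base R := by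
  classical
  have hfin : Finite (GL ι F) := inferInstance
  have hne : (1 : GL ι F) ≠ -1 := by
    intro h
    have h1 := congrArg (fun g : GL ι F => (g : Matrix ι ι F)) h
    simp only [Units.val_one, Units.val_neg] at h1
    have h3 := congrFun (congrFun h1 (Classical.arbitrary ι)) (Classical.arbitrary ι)
    simp only [Matrix.one_apply_eq, Matrix.neg_apply] at h3
    apply h2
    linear_combination h3
  -- the central involution
  obtain ⟨⟨z, hzc⟩, hzo⟩ := exists_prime_orderOf_dvd_card' (G := Subgroup.center R) 2 (by rw [hz])
  have hzo' : orderOf z = 2 := by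
    rw [← hzo]; exact (Subgroup.orderOf_mk z hzc).symm
  have hz1 : z ≠ 1 := by
    rintro rfl; rw [orderOf_one] at hzo'; exact absurd hzo' (by norm_num)
  have hzz : z * z = 1 := by rw [← pow_two, ← hzo', pow_orderOf_eq_one]
  have hzm : (z : GL ι F) = -1 := by
    obtain ⟨c, hc⟩ := H921.center_scalar habs z hzc
    have h1 : ((z : GL ι F) : Matrix ι ι F) * ((z : GL ι F) : Matrix ι ι F) = 1 := by
      rw [← Units.val_mul, ← Subgroup.coe_mul, hzz]; rfl
    rw [hc] at h1
    have h3 := congrFun (congrFun h1 (Classical.arbitrary ι)) (Classical.arbitrary ι)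
    simp only [Matrix.smul_mul, Matrix.mul_smul, one_mul, Matrix.smul_apply, Matrix.one_apply_eq,
      smul_eq_mul, mul_one] at h3
    rcases mul_self_eq_one_iff.1 h3 with h | h
    · exfalso
      apply hz1
      apply Subtype.ext
      apply Units.ext
      rw [hc, h, one_smul]; rfl
    · apply Units.ext
      rw [hc, h, neg_one_smul]; rfl
  have hneg : (-1 : GL ι F) ∈ R := by rw [← hzm]; exact z.2
  have hexp : Monoid.exponent R = 4 := by rw [hR.exponent_eq]; norm_num
  have h4' : ∀ q : R, q ^ 4 = 1 := fun q => by rw [← hexp]; exact Monoid.pow_exponent_eq_one q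
  obtain ⟨hc1, hc2, hc3⟩ := ClassificationK.SymplecticExpFour.structure_exp_four
    ⟨hR.pGroup, hR.cyclic_of_characteristic⟩ h4' hzo' hzc
  refine ⟨hne, hneg, ?_, ?_, ?_, h32, minus_of hR.pGroup hm hneg hne⟩
  · intro x hx y hy
    rcases hc1 ⟨x, hx⟩ ⟨y, hy⟩ with h | h
    · left
      rw [commutatorElement_eq_one_iff_mul_comm] at h
      exact congrArg Subtype.val h
    · right
      have h1 : x * y * x⁻¹ * y⁻¹ = -1 := by
        rw [commutatorElement_def] at h
        rw [← hzm]
        exact congrArg Subtype.val h
      calc x * y = (x * y * x⁻¹ * y⁻¹) * (y * x) := by group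
        _ = -(y * x) := by rw [h1, neg_one_mul]
  · intro x hx
    rcases hc2 ⟨x, hx⟩ with h | h
    · left
      rw [pow_two] at h
      exact congrArg Subtype.val h
    · right
      rw [pow_two] at h
      rw [← hzm]
      exact congrArg Subtype.val h
  · intro x hx hxc
    have hxc' : (⟨x, hx⟩ : R) ∈ Subgroup.center R := by
      rw [Subgroup.mem_center_iff]
      intro g
      exact Subtype.ext (hxc g g.2).symm
    have hset : ∀ w : Subgroup.center R, w = 1 ∨ w = ⟨z, hzc⟩ := by
      intro w
      by_contra hcon
      push Not at hcon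
      have h3 : ({1, ⟨z, hzc⟩, w} : Finset (Subgroup.center R)).card = 3 := by
        rw [Finset.card_insert_of_notMem, Finset.card_insert_of_notMem, Finset.card_singleton]
        · simpa using fun h => hcon.2 h.symm
        · simp only [Finset.mem_insert, Finset.mem_singleton, not_or]
          exact ⟨fun h => hz1 (congrArg Subtype.val h).symm, fun h => hcon.1 h.symm⟩
      have := Fintype.ofFinite (Subgroup.center R)
      have h5 := Finset.card_le_univ ({1, ⟨z, hzc⟩, w} : Finset (Subgroup.center R))
      rw [h3, ← Nat.card_eq_fintype_card, hz] at h5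
      omega
    rcases hset ⟨_, hxc'⟩ with h | h
    · left
      exact congrArg (fun w : Subgroup.center R => ((w : R) : GL ι F)) h
    · right
      rw [← hzm]
      exact congrArg (fun w : Subgroup.center R => ((w : R) : GL ι F)) h

end Cfsg.Agent.H97.Cliff
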