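import Mathlib
import Cfsg.Prelude.Def_GeometricClasses

/-!
# Extraspecial groups `2^{1+4}_-`: five anticommuting involutions

* `Frame R t` : `t 0, …, t 4` are pairwise anticommuting involutions generating `R`, and every involution of `R` is
  `-1` or `± t i`.
* `exists_frame` : existence for the groups with the properties `Base`.
-/

set_option autoImplicit false
set_option linter.unusedSimpArgs false
set_option linter.unusedSectionVars false

namespace Cfsg.Agent.H97.Cliff

section rules

variable {G : Type*} [Group G] [HasDistribNeg G]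

theorem as1 {x y z w : G} (h : x * y = z * w) (v : G) : x * (y * v) = z * (w * v) := by
  rw [← mul_assoc, h, mul_assoc]

theorem as2 {x y z w : G} (h : x * y = -(z * w)) (v : G) : x * (y * v) = -(z * (w * v)) := by
  rw [← mul_assoc, h, neg_mul, mul_assoc]

theorem as3 {x y : G} (h : x * y = 1) (v : G) : x * (y * v) = v := by
  rw [← mul_assoc, h, one_mul]

theorem as4 {x y : G} (h : x * y = -1) (v : G) : x * (y * v) = -v := by
  rw [← mul_assoc, h, neg_mul, one_mul]

/-- the properties of `R` that are used -/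
structure Base (R : Subgroup G) : Prop where
  ne : (1 : G) ≠ -1
  neg : -1 ∈ R
  comm : ∀ x ∈ R, ∀ y ∈ R, x * y = y * x ∨ x * y = -(y * x)
  sq : ∀ x ∈ R, x * x = 1 ∨ x * x = -1
  cen : ∀ x ∈ R, (∀ y ∈ R, x * y = y * x) → x = 1 ∨ x = -1
  card : Nat.card R = 32
  minus : ∀ x ∈ R, ∀ y ∈ R, x * x = 1 → y * y = 1 → x * y = y * x →
    x = 1 ∨ x = -1 ∨ y = 1 ∨ y = -1 ∨ y = x ∨ y = -x

/-- five pairwise anticommuting involutions -/
structure Frame (R : Subgroup G) (t : Fin 5 → G) : Prop where
  ne : (1 : G) ≠ -1
  sq : ∀ i, t i * t i = 1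
  anti : ∀ i j, i ≠ j → t i * t j = -(t j * t i)
  prod : t 4 = t 0 * t 1 * t 2 * t 3
  mem : ∀ i, t i ∈ R
  gen : R ≤ Subgroup.closure (Set.range t)
  inv : ∀ x ∈ R, x * x = 1 → x = 1 ∨ x = -1 ∨ ∃ i, x = t i ∨ x = -t i

variable {R : Subgroup G}

theorem ne_neg (hne : (1 : G) ≠ -1) (x : G) : x ≠ -x := by
  intro h
  apply hne
  have h1 : x⁻¹ * x = x⁻¹ * (-x) := by rw [← h]
  rwa [inv_mul_cancel, mul_neg, inv_mul_cancel] at h1

theorem Base.neg_mem (B : Base R) {x : G} (hx : x ∈ R) : -x ∈ R := by
  have h := R.mul_mem B.neg hx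
  rwa [neg_one_mul] at h

theorem Base.neg_mem_iff (B : Base R) {x : G} : -x ∈ R ↔ x ∈ R :=
  ⟨fun h => by have := B.neg_mem h; rwa [neg_neg] at this, B.neg_mem⟩

theorem Base.exists_not_mem (B : Base R) (s : Finset G) (hs : s.card < 32) : ∃ x ∈ R, x ∉ s := by
  by_contra hcon
  push Not at hcon
  have h1 : (R : Set G) ⊆ (s : Set G) := fun x hx => hcon x hx
  have h2 := Set.ncard_le_ncard h1 s.finite_toSet
  rw [Set.ncard_coe_finset] at h2
  have h3 : Nat.card R = (R : Set G).ncard := rfl
  rw [← h3, B.card] at h2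
  omega

theorem card_eight {s : Finset G} {f : Bool × Bool × Bool → G}
    (h : ∀ x ∈ s, ∃ a, f a = x) : s.card < 32 := by
  classical
  have h1 : s ⊆ Finset.univ.image f := by
    intro x hx
    obtain ⟨a, ha⟩ := h x hx
    exact Finset.mem_image.2 ⟨a, Finset.mem_univ _, ha⟩
  have h2 := (Finset.card_le_card h1).trans Finset.card_image_le
  simp at h2
  omega

theorem card_lt (a b c d : G) [DecidableEq G] :
    ({a, -a, b, -b, c, -c, d, -d} : Finset G).card < 32 := by
  have h1 : ({a, -a, b, -b, c, -c, d, -d} : Finset G).card ≤ 8 := by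
    refine (Finset.card_insert_le _ _).trans ?_
    refine Nat.succ_le_succ ((Finset.card_insert_le _ _).trans ?_)
    exact Nat.succ_le_succ (Finset.card_le_six)
  omega

/-- two anticommuting involutions -/
theorem Base.exists_two (B : Base R) :
    ∃ x ∈ R, ∃ y ∈ R, x * x = 1 ∧ y * y = 1 ∧ y * x = -(x * y) := by
  classical
  -- a noncentral involution
  obtain ⟨x, hx, hxx, hx1, hx2⟩ : ∃ x ∈ R, x * x = 1 ∧ x ≠ 1 ∧ x ≠ -1 := by
    by_contra hcon
    push Not at hcon
    have hsq : ∀ x ∈ R, x ≠ 1 → x ≠ -1 → x * x = -1 := by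
      intro x hx h1 h2
      exact (B.sq x hx).resolve_left fun h => h2 (hcon x hx h h1)
    obtain ⟨x, hx, hxs⟩ := B.exists_not_mem _ (card_lt (1 : G) 1 1 1)
    have hx1 : x ≠ 1 := fun h => hxs (by simp [h])
    have hx2 : x ≠ -1 := fun h => hxs (by simp [h])
    have hxx := hsq x hx hx1 hx2
    obtain ⟨y, hy, hxy⟩ : ∃ y ∈ R, x * y ≠ y * x := by
      by_contra h
      push Not at h
      rcases B.cen x hx h with h1 | h1
      · exact hx1 h1
      · exact hx2 h1
    have hxy' : x * y = -(y * x) := (B.comm x hx y hy).resolve_left hxy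
    have hyy : y * y = -1 := by
      apply hsq y hy
      · rintro rfl; exact hxy (by simp)
      · rintro rfl; exact hxy (by simp)
    -- the elements commuting with `x`
    have hC : ∀ w ∈ R, x * w = w * x → w = 1 ∨ w = -1 ∨ w = x ∨ w = -x := by
      intro w hw hxw
      by_cases h1 : w = 1
      · exact Or.inl h1
      by_cases h2 : w = -1
      · exact Or.inr (Or.inl h2)
      have hww := hsq w hw h1 h2
      have h3 : (x * w) * (x * w) = 1 := by
        rw [mul_assoc, ← mul_assoc w, ← hxw, mul_assoc, hww]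
        simp [hxx]
      by_cases h4 : x * w = 1
      · right; right; right
        have := as4 hxx w
        rw [h4, mul_one] at this
        rw [this, neg_neg]
      · have h5 := hcon (x * w) (R.mul_mem hx hw) h3 h4
        right; right; left
        have := as4 hxx w
        rw [h5, mul_neg, mul_one] at this
        exact (neg_injective this).symm
    obtain ⟨w, hw, hws⟩ := B.exists_not_mem _ (card_lt (1 : G) x y (y * x))
    apply hws
    rcases B.comm x hx w hw with h | h
    · rcases hC w hw h with h1 | h1 | h1 | h1 <;> simp [h1]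
    · have h1 : x * (y * w) = (y * w) * x := by
        rw [as2 hxy', h, mul_neg, neg_neg, mul_assoc]
      have h2 : y * (y * w) = -w := as4 hyy w
      rcases hC (y * w) (R.mul_mem hy hw) h1 with h3 | h3 | h3 | h3
      · rw [h3, mul_one] at h2
        have : w = -y := by rw [h2, neg_neg]
        simp [this]
      · rw [h3, mul_neg, mul_one] at h2
        have : w = y := (neg_injective h2).symm
        simp [this]
      · rw [h3] at h2
        have : w = -(y * x) := by rw [h2, neg_neg]
        simp [this]
      · rw [h3, mul_neg] at h2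
        have : w = y * x := (neg_injective h2).symm
        simp [this]
  obtain ⟨y, hy, hy'⟩ : ∃ y ∈ R, x * y ≠ y * x := by
    by_contra h
    push Not at h
    rcases B.cen x hx h with h1 | h1
    · exact hx1 h1
    · exact hx2 h1
  have hxy : x * y = -(y * x) := (B.comm x hx y hy).resolve_left hy'
  have hyx : y * x = -(x * y) := by rw [hxy, neg_neg]
  rcases B.sq y hy with h | h
  · exact ⟨x, hx, y, hy, hxx, h, hyx⟩
  · refine ⟨x, hx, x * y, R.mul_mem hx hy, hxx, ?_, ?_⟩
    · simp only [mul_assoc, as2 hyx, h, mul_neg, mul_one, neg_neg, hxx]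
    · simp only [mul_assoc, hyx, mul_neg]

/-- **Five anticommuting involutions.** -/
theorem Base.exists_frame (B : Base R) : ∃ t : Fin 5 → G, Frame R t := by
  classical
  obtain ⟨x, hx, y, hy, hxx, hyy, hyx⟩ := B.exists_two
  have hcx : ∀ w ∈ R, w * x = x * w ∨ w * x = -(x * w) := fun w hw => B.comm w hw x hx
  have hcy : ∀ w ∈ R, w * y = y * w ∨ w * y = -(y * w) := fun w hw => B.comm w hw y hy
  have hxy : x * y = -(y * x) := by rw [hyx, neg_neg]
  -- correction by the group generated by `x, y`
  have hcor : ∀ w ∈ R, ∃ c, (c = 1 ∨ c = x ∨ c = y ∨ c = x * y) ∧ (c * w) * x = x * (c * w) ∧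
      (c * w) * y = y * (c * w) := by
    intro w hw
    rcases hcx w hw with h1 | h1 <;> rcases hcy w hw with h2 | h2
    · exact ⟨1, Or.inl rfl, by simpa using h1, by simpa using h2⟩
    · refine ⟨x, Or.inr (Or.inl rfl), ?_, ?_⟩
      · simp only [mul_assoc, h1, as3 hxx]
      · simp only [mul_assoc, h2, mul_neg, as2 hyx]
    · refine ⟨y, Or.inr (Or.inr (Or.inl rfl)), ?_, ?_⟩
      · simp only [mul_assoc, h1, mul_neg, as2 hyx, neg_neg]
      · simp only [mul_assoc, h2, as3 hyy]
    · refine ⟨x * y, Or.inr (Or.inr (Or.inr rfl)), ?_, ?_⟩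
      · simp only [mul_assoc, h1, mul_neg, as2 hyx, neg_neg, as3 hxx]
      · simp only [mul_assoc, h2, mul_neg, as2 hyx, as3 hyy]
  have hxm : ∀ c, (c = 1 ∨ c = x ∨ c = y ∨ c = x * y) → c ∈ R := by
    rintro c (rfl | rfl | rfl | rfl)
    · exact R.one_mem
    · exact hx
    · exact hy
    · exact R.mul_mem hx hy
  -- an element commuting with `x, y`
  obtain ⟨a, ha, hax, hay, ha1, ha2⟩ : ∃ a ∈ R, a * x = x * a ∧ a * y = y * a ∧ a ≠ 1 ∧ a ≠ -1 := by
    obtain ⟨w, hw, hws⟩ := B.exists_not_mem _ (card_lt (1 : G) x y (x * y))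
    obtain ⟨c, hc, h1, h2⟩ := hcor w hw
    refine ⟨c * w, R.mul_mem (hxm c hc) hw, h1, h2, ?_, ?_⟩
    · intro h
      apply hws
      rcases hc with rfl | rfl | rfl | rfl
      · rw [one_mul] at h; simp [h]
      · have := as3 hxx w
        rw [h, mul_one] at this
        simp [← this]
      · have := as3 hyy w
        rw [h, mul_one] at this
        simp [← this]
      · have h3 : w = -(x * y) := by
          have h4 : y * (x * (x * y * w)) = w := by
            simp only [mul_assoc, as3 hxx, as3 hyy]
          rw [h, mul_one, hyx] at h4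
          exact h4.symm
        simp [h3]
    · intro h
      apply hws
      rcases hc with rfl | rfl | rfl | rfl
      · rw [one_mul] at h; simp [h]
      · have := as3 hxx w
        rw [h, mul_neg, mul_one] at this
        simp [← this]
      · have := as3 hyy w
        rw [h, mul_neg, mul_one] at this
        simp [← this]
      · have h3 : w = x * y := by
          have h4 : y * (x * (x * y * w)) = w := by
            simp only [mul_assoc, as3 hxx, as3 hyy]
          rw [h, mul_neg, mul_neg, mul_one, hyx, neg_neg] at h4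
          exact h4.symm
        simp [h3]
  -- an element commuting with `x, y` and not with `a`
  obtain ⟨b, hb, hbx, hby, hba⟩ : ∃ b ∈ R, b * x = x * b ∧ b * y = y * b ∧ b * a = -(a * b) := by
    obtain ⟨w, hw, hw'⟩ : ∃ w ∈ R, a * w ≠ w * a := by
      by_contra h
      push Not at h
      rcases B.cen a ha h with h1 | h1
      · exact ha1 h1
      · exact ha2 h1
    have haw : a * w = -(w * a) := (B.comm a ha w hw).resolve_left hw'
    obtain ⟨c, hc, h1, h2⟩ := hcor w hw
    refine ⟨c * w, R.mul_mem (hxm c hc) hw, h1, h2, ?_⟩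
    have hca : a * c = c * a := by
      rcases hc with rfl | rfl | rfl | rfl
      · simp
      · exact hax
      · exact hay
      · simp only [mul_assoc, as1 hax, hay]
    simp only [mul_assoc, as1 hca, haw, mul_neg, neg_neg]
  have hnx : ∀ w ∈ R, w * x = x * w → w * y = y * w → w ≠ 1 → w ≠ -1 → w * w = -1 := by
    intro w hw h1 h2 h3 h4
    refine (B.sq w hw).resolve_left fun h => ?_
    rcases B.minus x hx w hw hxx h h1.symm with h5 | h5 | h5 | h5 | h5 | h5
    · rw [h5] at hyx
      simp at hyx
      exact ne_neg B.ne _ hyx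
    · rw [h5] at hyx
      simp at hyx
      exact ne_neg B.ne _ hyx.symm
    · exact h3 h5
    · exact h4 h5
    · rw [h5, hxy] at h2
      exact ne_neg B.ne _ h2.symm
    · rw [h5, neg_mul, hxy, mul_neg, neg_neg] at h2
      exact ne_neg B.ne _ h2
  have hb1 : b ≠ 1 := by
    rintro rfl
    simp at hba
    exact ne_neg B.ne _ hba
  have hb2 : b ≠ -1 := by
    rintro rfl
    simp at hba
    exact ne_neg B.ne _ hba.symm
  have haa := hnx a ha hax hay ha1 ha2
  have hbb := hnx b hb hbx hby hb1 hb2
  -- every element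
  have hall : ∀ w ∈ R, ∃ c d, (c = 1 ∨ c = x ∨ c = y ∨ c = x * y) ∧
      (d = 1 ∨ d = a ∨ d = b ∨ d = a * b) ∧ (w = c * d ∨ w = -(c * d)) := by
    intro w hw
    obtain ⟨c, hc, h1, h2⟩ := hcor w hw
    have hcw : c * w ∈ R := R.mul_mem (hxm c hc) hw
    -- correction by `a, b`
    obtain ⟨d, hd, hdx, hdy, h3, h4⟩ : ∃ d, (d = 1 ∨ d = a ∨ d = b ∨ d = a * b) ∧
        (d * (c * w)) * x = x * (d * (c * w)) ∧ (d * (c * w)) * y = y * (d * (c * w)) ∧
        (d * (c * w)) * a = a * (d * (c * w)) ∧ (d * (c * w)) * b = b * (d * (c * w)) := by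
      generalize c * w = v at h1 h2 hcw
      rcases B.comm v hcw a ha with h3 | h3 <;> rcases B.comm v hcw b hb with h4 | h4
      · exact ⟨1, Or.inl rfl, by simpa using h1, by simpa using h2, by simpa using h3, by simpa using h4⟩
      · refine ⟨a, Or.inr (Or.inl rfl), ?_, ?_, ?_, ?_⟩ <;>
        simp only [mul_assoc, h1, h2, h3, h4, as1 hax, as1 hay, as2 hba, mul_neg, neg_neg]
      · refine ⟨b, Or.inr (Or.inr (Or.inl rfl)), ?_, ?_, ?_, ?_⟩ <;>
        simp only [mul_assoc, h1, h2, h3, h4, as1 hbx, as1 hby, as2 hba, mul_neg, neg_neg]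
      · refine ⟨a * b, Or.inr (Or.inr (Or.inr rfl)), ?_, ?_, ?_, ?_⟩ <;>
        simp only [mul_assoc, h1, h2, h3, h4, as1 hbx, as1 hby, as1 hax, as1 hay, as2 hba, mul_neg, neg_neg]
    have hdR : d ∈ R := by
      rcases hd with rfl | rfl | rfl | rfl
      · exact R.one_mem
      · exact ha
      · exact hb
      · exact R.mul_mem ha hb
    have hdd : d * (c * w) = 1 ∨ d * (c * w) = -1 := by
      have hvR : d * (c * w) ∈ R := R.mul_mem hdR hcw
      generalize d * (c * w) = v at hdx hdy h3 h4 hvR
      by_contra hcon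
      push Not at hcon
      have hvv := hnx v hvR hdx hdy hcon.1 hcon.2
      have h5 : (v * a) * (v * a) = 1 := by
        simp only [mul_assoc, h3, as1 h3, haa, mul_neg, mul_one, hvv, neg_neg]
      have h6 : v * a = 1 ∨ v * a = -1 := by
        by_contra hc2
        push Not at hc2
        have h7 := hnx (v * a) (R.mul_mem hvR ha) (by simp only [mul_assoc, hax, as1 hdx])
          (by simp only [mul_assoc, hay, as1 hdy]) hc2.1 hc2.2
        rw [h5] at h7
        exact B.ne h7
      have h8 : (v * a) * b = b * (v * a) := by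
        rcases h6 with h6 | h6 <;> rw [h6] <;> simp
      have h9 : (v * a) * b = -(b * (v * a)) := by
        simp only [mul_assoc, as1 h4.symm, hba, mul_neg, neg_neg]
      rw [h9] at h8
      exact ne_neg B.ne _ h8.symm
    have hcc : c * c = 1 ∨ c * c = -1 := by
      rcases hc with rfl | rfl | rfl | rfl
      · simp
      · exact Or.inl hxx
      · exact Or.inl hyy
      · right
        simp only [mul_assoc, as2 hyx, hyy, mul_neg, mul_one, hxx]
    have hdd' : d * d = 1 ∨ d * d = -1 := by
      rcases hd with rfl | rfl | rfl | rfl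
      · simp
      · exact Or.inr haa
      · exact Or.inr hbb
      · right
        simp only [mul_assoc, as2 hba, hbb, mul_neg, mul_one, haa, neg_neg]
    refine ⟨c, d, hc, hd, ?_⟩
    have h5 : c * (d * (d * (c * w))) = w ∨ c * (d * (d * (c * w))) = -w := by
      rcases hdd' with h | h
      · rw [as3 h]
        rcases hcc with h' | h'
        · left; rw [as3 h']
        · right; rw [as4 h']
      · rw [as4 h, mul_neg]
        rcases hcc with h' | h'
        · right; rw [as3 h']
        · left; rw [as4 h', neg_neg]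
    rcases hdd with h | h
    · rw [h, mul_one] at h5
      rcases h5 with h5 | h5
      · exact Or.inl h5.symm
      · right
        rw [h5, neg_neg]
    · rw [h, mul_neg, mul_neg, mul_one] at h5
      rcases h5 with h5 | h5
      · exact Or.inr h5.symm
      · left
        exact (neg_injective h5).symm
  -- the five involutions
  have e2 : (x * y * a) * (x * y * a) = 1 := by
    simp only [mul_assoc, hax, as1 hax, hay, as1 hay, as2 hyx, mul_neg, as3 hyy, as3 hxx, haa, neg_neg]
  have e3 : (x * y * b) * (x * y * b) = 1 := by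
    simp only [mul_assoc, hbx, as1 hbx, hby, as1 hby, as2 hyx, mul_neg, as3 hyy, as3 hxx, hbb, neg_neg]
  have hp : x * y * (x * y * a) * (x * y * b) = -(x * y * a * b) := by
    simp only [mul_assoc, hax, as1 hax, hay, as1 hay, as2 hyx, mul_neg, neg_mul, as3 hyy, as3 hxx]
  let t : Fin 5 → G := ![x, y, x * y * a, x * y * b, -(x * y * a * b)]
  have t0 : t 0 = x := rfl
  have t1 : t 1 = y := rfl
  have t2 : t 2 = x * y * a := rfl
  have t3 : t 3 = x * y * b := rfl
  have t4 : t 4 = -(x * y * a * b) := rfl
  have hanti : ∀ i j, i < j → t j * t i = -(t i * t j) := by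
    intro i j hij
    fin_cases i <;> fin_cases j <;> first
      | exact absurd hij (by decide)
      | (simp only [t, Fin.reduceFinMk, Fin.zero_eta, Fin.mk_one, Fin.isValue, Matrix.cons_val]
         simp only [mul_assoc, neg_mul, mul_neg, neg_neg, hyx, as2 hyx, hax, as1 hax, hay, as1 hay,
           hbx, as1 hbx, hby, as1 hby, hba, as2 hba, hxx, hyy, haa, hbb, as3 hxx, as3 hyy, as4 haa,
           as4 hbb, mul_one, one_mul])
  refine ⟨t, B.ne, ?_, ?_, ?_, ?_, ?_, ?_⟩
  · intro i
    fin_cases i
    · exact hxx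
    · exact hyy
    · exact e2
    · exact e3
    · change -(x * y * a * b) * -(x * y * a * b) = 1
      simp only [mul_assoc, neg_mul, mul_neg, neg_neg, hyx, as2 hyx, hax, as1 hax, hay, as1 hay,
           hbx, as1 hbx, hby, as1 hby, hba, as2 hba, hxx, hyy, haa, hbb, as3 hxx, as3 hyy, as4 haa,
           as4 hbb, mul_one, one_mul]
  · intro i j hij
    rcases lt_or_gt_of_ne hij with h | h
    · rw [hanti i j h, neg_neg]
    · exact hanti j i h
  · rw [t4, t0, t1, t2, t3, hp]
  · have hxyR : x * y ∈ R := R.mul_mem hx hy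
    intro i
    fin_cases i
    · exact hx
    · exact hy
    · exact R.mul_mem hxyR ha
    · exact R.mul_mem hxyR hb
    · exact B.neg_mem (R.mul_mem (R.mul_mem hxyR ha) hb)
  · -- generation
    set C := Subgroup.closure (Set.range t) with hC
    have hCt : ∀ i, t i ∈ C := fun i => Subgroup.subset_closure ⟨i, rfl⟩
    have hxC : x ∈ C := hCt 0
    have hyC : y ∈ C := hCt 1
    have hnC : (-1 : G) ∈ C := by
      have h : x * y * (x * y) = -1 := by
        simp only [mul_assoc, as2 hyx, hyy, mul_neg, mul_one, hxx]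
      rw [← h]
      exact C.mul_mem (C.mul_mem hxC hyC) (C.mul_mem hxC hyC)
    have haC : a ∈ C := by
      have h : y * (x * (x * y * a)) = a := by simp only [mul_assoc, as3 hxx, as3 hyy]
      rw [← h]
      exact C.mul_mem hyC (C.mul_mem hxC (hCt 2))
    have hbC : b ∈ C := by
      have h : y * (x * (x * y * b)) = b := by simp only [mul_assoc, as3 hxx, as3 hyy]
      rw [← h]
      exact C.mul_mem hyC (C.mul_mem hxC (hCt 3))
    intro w hw
    obtain ⟨c, d, hc, hd, h⟩ := hall w hw
    have hcC : c ∈ C := by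
      rcases hc with rfl | rfl | rfl | rfl
      · exact C.one_mem
      · exact hxC
      · exact hyC
      · exact C.mul_mem hxC hyC
    have hdC : d ∈ C := by
      rcases hd with rfl | rfl | rfl | rfl
      · exact C.one_mem
      · exact haC
      · exact hbC
      · exact C.mul_mem haC hbC
    rcases h with rfl | rfl
    · exact C.mul_mem hcC hdC
    · rw [← neg_one_mul]
      exact C.mul_mem hnC (C.mul_mem hcC hdC)
  · -- the involutions
    have key : ∀ w, (w = 1 ∨ w = -1 ∨ ∃ i, w = t i ∨ w = -t i) →
        (-w = 1 ∨ -w = -1 ∨ ∃ i, -w = t i ∨ -w = -t i) := by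
      rintro w (h | h | ⟨i, h | h⟩)
      · right; left; rw [h]
      · left; rw [h, neg_neg]
      · right; right; exact ⟨i, Or.inr (by rw [h])⟩
      · right; right; exact ⟨i, Or.inl (by rw [h, neg_neg])⟩
    have key2 : ∀ c d, (c = 1 ∨ c = x ∨ c = y ∨ c = x * y) → (d = 1 ∨ d = a ∨ d = b ∨ d = a * b) →
        (c * d) * (c * d) = 1 → (c * d = 1 ∨ c * d = -1 ∨ ∃ i, c * d = t i ∨ c * d = -t i) := by
      intro c d hc hd h
      have hbad : ∀ w : G, w * w = -1 → w * w = 1 → False := fun w h1 h2 => by
        rw [h1] at h2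
        exact B.ne h2.symm
      rcases hc with rfl | rfl | rfl | rfl <;> rcases hd with rfl | rfl | rfl | rfl
      · left; simp
      · exact absurd h (fun h => hbad _ (by simpa using haa) h)
      · exact absurd h (fun h => hbad _ (by simpa using hbb) h)
      · refine absurd h (fun h => hbad _ ?_ h)
        simp only [one_mul, mul_assoc, as2 hba, hbb, mul_neg, mul_one, haa, neg_neg]
      · right; right; exact ⟨0, Or.inl (by simp [t0])⟩
      · refine absurd h (fun h => hbad _ ?_ h)
        simp only [mul_assoc, as1 hax, haa, mul_neg, mul_one, hxx]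
      · refine absurd h (fun h => hbad _ ?_ h)
        simp only [mul_assoc, as1 hbx, hbb, mul_neg, mul_one, hxx]
      · refine absurd h (fun h => hbad _ ?_ h)
        simp only [mul_assoc, as1 hbx, as1 hax, as2 hba, hbb, haa, mul_neg, mul_one, hxx, neg_neg]
      · right; right; exact ⟨1, Or.inl (by simp [t1])⟩
      · refine absurd h (fun h => hbad _ ?_ h)
        simp only [mul_assoc, as1 hay, haa, mul_neg, mul_one, hyy]
      · refine absurd h (fun h => hbad _ ?_ h)
        simp only [mul_assoc, as1 hby, hbb, mul_neg, mul_one, hyy]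
      · refine absurd h (fun h => hbad _ ?_ h)
        simp only [mul_assoc, as1 hby, as1 hay, as2 hba, hbb, haa, mul_neg, mul_one, hyy, neg_neg]
      · refine absurd h (fun h => hbad _ ?_ h)
        simp only [mul_one, mul_assoc, as2 hyx, hyy, mul_neg, hxx]
      · right; right; exact ⟨2, Or.inl (by rw [t2])⟩
      · right; right; exact ⟨3, Or.inl (by rw [t3])⟩
      · right; right; exact ⟨4, Or.inr (by rw [t4, neg_neg, mul_assoc, mul_assoc, mul_assoc])⟩
    intro w hw hww
    obtain ⟨c, d, hc, hd, h⟩ := hall w hw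
    rcases h with rfl | rfl
    · exact key2 c d hc hd hww
    · exact key _ (key2 c d hc hd (by simpa only [neg_mul_neg] using hww))

end rules

end Cfsg.Agent.H97.Cliff
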