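import Cfsg.Agent.H97.FpfTS

/-!
# Fixed point free primes of orthogonal groups: transfer to `POmega`

* `excl` : `Q ≅ Q0 ⟂ H`, `r` odd, `r ≠ l`, `r` divides `|O(Q0)|`, and `l` is odd or does not divide the order of the
  Schur multiplier ==> `¬ May r (POmega F Q)`;
* `excl_char` : `¬ May l (POmega F Q)` for odd `l`;
* `excl_ts` : `r` divides `|POmega F Q|`, `ord (q mod r) = d` odd, `3 ≤ d`, `dim < 3 d` ==> `¬ May r (POmega F Q)`.
-/

set_option autoImplicit false
set_option linter.unusedSectionVars false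
set_option linter.style.haveILetI false
set_option linter.unusedVariables false

namespace Cfsg.Agent.H97.FpfO

open QuadraticMap Module Cfsg.Agent.LieClassical.OrthCore Cfsg.Agent.LieClassical.OrthTrans
  Cfsg.Agent.LieClassical.OrthFinite
  Cfsg.Agent.H122.OrthWt Cfsg.Agent.H122.OrthIso Cfsg.Agent.H80.Fpf Cfsg.Agent.ClassicalGeometry.OrthAut1
  Cfsg.Agent.ClassicalGeometry.OrthSemiForms
  Cfsg.Agent.H200.RowOrth Cfsg.Agent.H200.LinFix Cfsg.Agent.BpLieP.Big

/-- the order of the kernels of covers is an isomorphism invariant -/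
theorem multDvd_congr {S T : Type*} [Group S] [Group T] (e : S ≃* T) {m : ℕ} (h : MultDvd S m) : MultDvd T m := by
  intro G _ _ π hπ
  have h1 := h G (e.symm.toMonoidHom.comp π) (hπ.equiv_comp e.symm)
  have h2 : (e.symm.toMonoidHom.comp π).ker = π.ker := by
    ext g
    rw [MonoidHom.mem_ker, MonoidHom.mem_ker]
    exact e.symm.map_eq_one_iff
  rwa [h2] at h1

section

universe u

variable {F : Type u} [Field F] [Fintype F] {ι κ : Type} [Fintype ι] [DecidableEq ι] [Fintype κ] [DecidableEq κ]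

/-- the isomorphism to the model -/
noncomputable def modelEquiv {Q : QuadraticForm F (κ → F)} (hG : Good Q) {W : Type*} [AddCommGroup W] [Module F W]
    {Q0 : QuadraticForm F W} (hiso : IsoQ Q (HQ Q0)) : Cfsg.POmega F ⇑Q ≃* P (HQ Q0) :=
  (pomegaEquiv hG).trans (quotientCenterCongr (Classical.choice hiso.equiv))

theorem good_of_iso {V V' : Type*} [AddCommGroup V] [Module F V] [AddCommGroup V'] [Module F V'] [Finite V']
    {Q : QuadraticForm F V} {Q' : QuadraticForm F V'} (hG : Good Q) (hiso : IsoQ Q Q') : Good Q' := by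
  obtain ⟨e, he⟩ := hiso
  have hp := fun x y => polar_iso he x y
  refine ⟨?_, ?_, ?_, ?_⟩
  · intro x hx
    have h1 : e.symm x = 0 := by
      apply hG.nondeg
      intro y
      rw [← hp, LinearEquiv.apply_symm_apply]
      exact hx _
    have h2 := congrArg e h1
    rwa [LinearEquiv.apply_symm_apply, map_zero] at h2
  · rw [← e.finrank_eq]; exact hG.dim
  · obtain ⟨x, hx, hx'⟩ := hG.sing
    exact ⟨e x, fun h => hx (e.map_eq_zero_iff.1 h), by rw [he]; exact hx'⟩
  · intro x y hxy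
    have hxy' : Hyp Q (e.symm x) (e.symm y) := by
      refine ⟨?_, ?_, ?_⟩
      · rw [← he, LinearEquiv.apply_symm_apply]; exact hxy.left
      · rw [← he, LinearEquiv.apply_symm_apply]; exact hxy.right
      · rw [← hp, LinearEquiv.apply_symm_apply, LinearEquiv.apply_symm_apply]; exact hxy.pair
    obtain ⟨w, hw, h1, h2, h3⟩ := hG.perp _ _ hxy'
    refine ⟨e w, fun h => hw (e.map_eq_zero_iff.1 h), by rw [he]; exact h1, ?_, ?_⟩
    · rw [← hp, LinearEquiv.apply_symm_apply] at h2; exact h2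
    · rw [← hp, LinearEquiv.apply_symm_apply] at h3; exact h3

/-- **Primes dividing the order of the isometry group of `Q0`, `Q = Q0 ⟂ H`.** -/
theorem excl {Q : QuadraticForm F (κ → F)} (hG : Good Q) {Q0 : QuadraticForm F (ι → F)} (hiso : IsoQ Q (HQ Q0))
    (hs : IsSimpleGroup (Cfsg.POmega F ⇑Q)) {l r : ℕ} (hl : l.Prime) [CharP F l] (hr : r.Prime) (hr2 : r ≠ 2)
    (hlr : l ≠ r) (hdvd : r ∣ Nat.card (Cfsg.isometryGroup F ⇑Q0))
    (hcase : l ≠ 2 ∨ ∃ m, MultDvd (Cfsg.POmega F ⇑Q) m ∧ ¬ l ∣ m) : ¬ May r (Cfsg.POmega F ⇑Q) := by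
  haveI : Fact l.Prime := ⟨hl⟩
  haveI : Fact r.Prime := ⟨hr⟩
  have hG' : Good (HQ Q0) := good_of_iso hG hiso
  let e := modelEquiv hG hiso
  haveI : IsSimpleGroup (P (HQ Q0)) := (e.isSimpleGroup_congr).1 hs
  haveI : Finite ((ι → F) ≃ₗ[F] (ι → F)) := Finite.of_injective (fun g => g.toEquiv)
    fun g h e => LinearEquiv.toEquiv_injective e
  rw [← card_O] at hdvd
  obtain ⟨⟨y, hyO⟩, hy⟩ := exists_prime_orderOf_dvd_card' r hdvd
  have hy1 : y ^ r = 1 := by
    have := pow_orderOf_eq_one (⟨y, hyO⟩ : O Q0)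
    rw [hy] at this
    exact congrArg Subtype.val this
  have hy2 : y ≠ 1 := by
    rintro rfl
    have h1 : (⟨1, hyO⟩ : O Q0) = 1 := rfl
    rw [h1, orderOf_one] at hy
    exact hr.one_lt.ne hy
  intro hM
  have hM' := hM.of_equiv e
  rcases hcase with h | ⟨m, hm, hlm⟩
  · exact not_may_ext hG' (l := l) hr2 hlr (good_of_odd hl h hr hr2) hyO hy1 hy2 hM'
  · exact not_may_ext_abelian hG' (l := l) hr2 (multDvd_congr e hm) hlm hyO hy1 hy2 hM'

/-- **The characteristic.** -/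
theorem excl_char {Q : QuadraticForm F (κ → F)} (hG : Good Q) {Q0 : QuadraticForm F (ι → F)} (hiso : IsoQ Q (HQ Q0))
    (hQ0 : Nondeg Q0) (hd : 2 ≤ Fintype.card ι) {l : ℕ} (hl : l.Prime) [CharP F l] (hl2 : l ≠ 2) :
    ¬ May l (Cfsg.POmega F ⇑Q) := by
  haveI : Fact l.Prime := ⟨hl⟩
  intro hM
  exact not_may_char (good_of_iso hG hiso) hQ0 (by rw [Module.finrank_fintype_fun_eq_card]; exact hd) hl2
    (hM.of_equiv (modelEquiv hG hiso))

/-- **Primes of odd order `d` modulo which.** -/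
theorem excl_ts {Q : QuadraticForm F (κ → F)} (hG : Good Q) (hs : IsSimpleGroup (Cfsg.POmega F ⇑Q)) {l r d : ℕ}
    (hl : l.Prime) [CharP F l] (hr : r.Prime) (hr2 : r ≠ 2) (hlr : l ≠ r)
    (hloc : ∀ (G : Type u) [Group G] [Finite G], Nonempty (G ≃* Cfsg.POmega F ⇑Q) → LocChar l G)
    (hd : Ordd r (Nat.card F) d) (hrd : r ∣ Nat.card F ^ d - 1) (hdo : Odd d) (hd3 : 3 ≤ d)
    (hV : Fintype.card κ < 3 * d) (hdvd : r ∣ Nat.card (Cfsg.POmega F ⇑Q)) : ¬ May r (Cfsg.POmega F ⇑Q) := by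
  haveI : Fact l.Prime := ⟨hl⟩
  haveI : Fact r.Prime := ⟨hr⟩
  let e := pomegaEquiv hG
  haveI : IsSimpleGroup (P Q) := (e.isSimpleGroup_congr).1 hs
  haveI : Finite ↥(E Q) := finite_E
  have hrF : (r : F) ≠ 0 := by
    intro h0
    rw [CharP.cast_eq_zero_iff F l] at h0
    exact hlr ((Nat.prime_dvd_prime_iff_eq hl hr).1 h0)
  rw [Nat.card_congr e.toEquiv] at hdvd
  obtain ⟨x, hx⟩ := exists_prime_orderOf_dvd_card' r hdvd
  obtain ⟨y, hy, hyx⟩ := lift_pow hG x (hr.odd_of_ne_two hr2) (by rw [← hx]; exact pow_orderOf_eq_one x)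
  have hy1 : y ≠ 1 := by
    rintro rfl
    rw [← hyx] at hx
    have h1 : (QuotientGroup.mk (1 : ↥(E Q)) : P Q) = 1 := rfl
    rw [h1, orderOf_one] at hx
    exact hr.one_lt.ne hx
  obtain ⟨U, hUd, hyU, hU⟩ := exists_ts hG hr2 hrF hd hrd hdo (by omega)
    (by rw [Module.finrank_fintype_fun_eq_card]; exact hV) hy hy1
  have hgood : Cfsg.Agent.H80.Fpf.Good l r := by
    by_cases hl2 : l = 2
    · subst hl2
      -- `d` divides `r - 1`
      have h1 : d ∣ r - 1 := by
        apply hd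
        have h2 : (Nat.card F).Coprime r := by
          rw [Nat.coprime_comm, Nat.Prime.coprime_iff_not_dvd hr]
          intro h3
          obtain ⟨n, hn1, hn2⟩ := FiniteField.card F 2
          rw [Nat.card_eq_fintype_card, hn2] at h3
          exact hr2 ((Nat.prime_dvd_prime_iff_eq hr hn1).1 (hr.dvd_of_dvd_pow h3))
        have h3 := Nat.ModEq.pow_totient h2
        rw [Nat.totient_prime hr] at h3
        exact (Nat.modEq_iff_dvd' (Nat.one_le_pow _ _ Nat.card_pos)).1 h3.symm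
      obtain ⟨p, hp, hpd⟩ := Nat.exists_prime_and_dvd (n := d) (by omega)
      refine good_two_of_dvd hp ?_ (hpd.trans h1)
      rintro rfl
      exact (Nat.not_even_iff_odd.2 hdo) (even_iff_two_dvd.2 hpd)
    · exact good_of_odd hl hl2 hr hr2
  intro hM
  refine not_may_ts (l := l) hG hr2 hlr hgood (hloc _ ⟨e.symm⟩) hy hy1 hyU hU (by omega) (hM.of_equiv e)

end

end Cfsg.Agent.H97.FpfO
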