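import Cfsg.Agent.H200.RowOrthG
import Cfsg.Agent.H324.Hall.OrthBound
import Cfsg.Agent.H80.Fpf.Loc

/-!
# Fixed point free primes of orthogonal groups: action on the radical of a singular point

`P (HQ Q)` is the simple group of the form `Q ⟂ H`.  An element `y` of `O Q` of odd prime order `r` acts on the
Siegel group `{sE Q w}` of a singular point, which is an elementary abelian `l`-group (`l` the characteristic):
* `not_may_ext` : `¬ May r (P (HQ Q))` (`Good l r`);
* `not_may_ext_abelian` : the same if `l` does not divide the order of the Schur multiplier;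
* `not_may_char` : `¬ May l (P (HQ Q))` for `l` odd.
-/

set_option autoImplicit false
set_option linter.unusedSectionVars false

namespace Cfsg.Agent.H97.FpfO

open scoped commutatorElement

open QuadraticMap Module Cfsg.Agent.LieClassical.OrthCore Cfsg.Agent.LieClassical.OrthTrans
  Cfsg.Agent.H122.OrthWt Cfsg.Agent.H80.Fpf Cfsg.Agent.ClassicalGeometry.OrthAut1
  Cfsg.Agent.H200.RowOrth

variable {F W : Type*} [Field F] [AddCommGroup W] [Module F W] {Q : QuadraticForm F W}

/-- Squares of isometries lie in `E Q`. -/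
theorem sq_mem_E {F V : Type*} [Field F] [AddCommGroup V] [Module F V] {Q : QuadraticForm F V} (hG : Good Q)
    {g : V ≃ₗ[F] V} (hg : g ∈ O Q) : g * g ∈ E Q := by
  have : FiniteDimensional F V := Module.finite_of_finrank_pos (by have := hG.dim; omega)
  have hcomm : ∀ {g h : V ≃ₗ[F] V}, g ∈ O Q → h ∈ O Q → g⁻¹ * h * g * h⁻¹ ∈ E Q := by
    intro g h hg hh
    rw [← hG.commutator_eq_E]
    have h1 : g⁻¹ * h * g * h⁻¹ = ⁅g⁻¹, h⁆ := by rw [commutatorElement_def, inv_inv]
    rw [h1]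
    exact Subgroup.commutator_mem_commutator ((O Q).inv_mem hg) hh
  have hg' := hg
  rw [O_eq_closure hG.nondeg] at hg'
  suffices h : g ∈ O Q ∧ g * g ∈ E Q from h.2
  induction hg' using Subgroup.closure_induction with
  | mem x hx =>
    rcases hx with ⟨v, hv, rfl⟩ | ⟨u, w, hu, hw, rfl⟩
    · refine ⟨refl_mem_O hv, ?_⟩
      rw [refl_mul_self]
      exact (E Q).one_mem
    · exact ⟨siegel_mem_O _ _, (E Q).mul_mem (siegel_mem_E _ _) (siegel_mem_E _ _)⟩
  | one => exact ⟨(O Q).one_mem, by rw [mul_one]; exact (E Q).one_mem⟩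
  | mul x y hx hy ihx ihy =>
    rw [← O_eq_closure hG.nondeg] at hx hy
    obtain ⟨h1, h2⟩ := ihx hx
    obtain ⟨h3, h4⟩ := ihy hy
    refine ⟨(O Q).mul_mem h1 h3, ?_⟩
    have h5 : x * y * (x * y) = x * x * (x⁻¹ * y * x * y⁻¹) * (y * y) := by group
    rw [h5]
    exact (E Q).mul_mem ((E Q).mul_mem h2 (hcomm h1 h3)) h4
  | inv x hx ihx =>
    rw [← O_eq_closure hG.nondeg] at hx
    obtain ⟨h1, h2⟩ := ihx hx
    refine ⟨(O Q).inv_mem h1, ?_⟩
    rw [← mul_inv_rev]
    exact (E Q).inv_mem h2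

/-- an element of odd order of `O Q` is in `E Q` -/
theorem mem_E_of_odd {F V : Type*} [Field F] [AddCommGroup V] [Module F V] [FiniteDimensional F V]
    {Q : QuadraticForm F V} (hG : Good Q) {g : V ≃ₗ[F] V} (hg : g ∈ O Q) {n : ℕ} (hn : Odd n) (h : g ^ n = 1) :
    g ∈ E Q := by
  obtain ⟨k, rfl⟩ := hn
  have h1 : g * g ∈ E Q := sq_mem_E hG hg
  have h2 : g⁻¹ = (g * g) ^ k := by
    rw [← pow_two, ← pow_mul]
    rw [pow_succ] at h
    exact (eq_inv_of_mul_eq_one_left h).symm
  rw [← inv_inv g, h2]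
  exact (E Q).inv_mem ((E Q).pow_mem h1 k)

/-- the Siegel group as a homomorphism -/
def sH (Q : QuadraticForm F W) : Multiplicative W →* E (HQ Q) where
  toFun w := sE Q w.toAdd
  map_one' := by
    apply Subtype.ext
    ext x
    · show (sg Q 0 x).1 = x.1
      rw [sg_apply]; simp
    · show (sg Q 0 x).2.1 = x.2.1
      rw [sg_apply]; simp
    · show (sg Q 0 x).2.2 = x.2.2
      rw [sg_apply]
  map_mul' a b := sE_add Q a.toAdd b.toAdd

/-- the Siegel group in the simple group -/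
def sP (Q : QuadraticForm F W) : Multiplicative W →* P (HQ Q) := (QuotientGroup.mk' _).comp (sH Q)

theorem sP_apply (w : W) : sP Q (Multiplicative.ofAdd w) = (QuotientGroup.mk (sE Q w) : P (HQ Q)) := rfl

theorem card_char_pow {l : ℕ} [hl : Fact l.Prime] [hc : CharP F l] (w : W) : (Multiplicative.ofAdd w) ^ l = 1 := by
  rw [← ofAdd_nsmul]
  have : l • w = 0 := by
    rw [← Nat.cast_smul_eq_nsmul F l w, CharP.cast_eq_zero, zero_smul]
  rw [this]
  rfl

theorem isPGroup_range {l : ℕ} [hl : Fact l.Prime] [hc : CharP F l] : IsPGroup l (sP Q).range := by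
  rintro ⟨_, w, rfl⟩
  refine ⟨1, Subtype.ext ?_⟩
  show (sP Q w) ^ l ^ 1 = 1
  rw [pow_one, ← map_pow]
  have := card_char_pow (F := F) (l := l) (Multiplicative.toAdd w)
  rw [show w = Multiplicative.ofAdd (Multiplicative.toAdd w) from rfl, this, map_one]

theorem range_comm (a : P (HQ Q)) (ha : a ∈ (sP Q).range) (b : P (HQ Q)) (hb : b ∈ (sP Q).range) :
    a * b = b * a := by
  obtain ⟨w, rfl⟩ := ha
  obtain ⟨w', rfl⟩ := hb
  rw [← map_mul, ← map_mul, mul_comm]

variable [Finite W]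

/-- an element of the Levi factor of order `r` -/
theorem exists_levi (hG : Good (HQ Q)) {r : ℕ} [hr : Fact r.Prime] (hr2 : r ≠ 2) {y : W ≃ₗ[F] W}
    (hyO : y ∈ O Q) (hy : y ^ r = 1) (hy1 : y ≠ 1) :
    ∃ t : E (HQ Q), t.1 = ext y ∧ t ^ r = 1 ∧ orderOf (QuotientGroup.mk t : P (HQ Q)) = r ∧
      (∀ w, t * sE Q w = sE Q (y w) * t) ∧
      ∃ w, (QuotientGroup.mk t : P (HQ Q)) * QuotientGroup.mk (sE Q w) ≠
        QuotientGroup.mk (sE Q w) * QuotientGroup.mk t := by
  have hF : Finite F := by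
    obtain ⟨x, hx, -⟩ := hG.sing
    by_cases h : ∃ w : W, w ≠ 0
    · obtain ⟨w, hw⟩ := h
      exact Finite.of_injective (fun a : F => a • w) (smul_left_injective F hw)
    · exfalso
      push Not at h
      apply hy1
      ext w
      rw [h w, map_zero, map_zero]
  have hfd : FiniteDimensional F W := inferInstance
  have hodd : Odd r := hr.out.odd_of_ne_two hr2
  have h1 : (ext y : (W × F × F) ≃ₗ[F] (W × F × F)) ^ r = 1 := by rw [← map_pow, hy, map_one]
  have h2 : (ext y : (W × F × F) ≃ₗ[F] (W × F × F)) ∈ E (HQ Q) :=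
    mem_E_of_odd hG (ext_mem_O Q hyO) hodd h1
  let t : E (HQ Q) := ⟨ext y, h2⟩
  have ht : t ^ r = 1 := Subtype.ext h1
  have hyne : ∃ w, y w ≠ w := by
    by_contra hcon
    push Not at hcon
    exact hy1 (LinearEquiv.ext hcon)
  have hc : ∀ w, t * sE Q w = sE Q (y w) * t := fun w => Subtype.ext (ext_mul_sg Q hyO w)
  have ht1 : t ≠ 1 := by
    intro h
    obtain ⟨w, hw⟩ := hyne
    apply hw
    have h3 := congrArg (fun g : E (HQ Q) => (g.1 (w, (0 : F), (0 : F))).1) h
    exact h3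
  refine ⟨t, rfl, ht, orderOf_mk hG hodd ht ht1, hc, ?_⟩
  obtain ⟨w, hw⟩ := hyne
  refine ⟨w, fun h => hw ?_⟩
  have h4 := comm_of_mk hG hodd ht h
  rw [hc] at h4
  exact sE_injective Q (mul_right_cancel h4)

theorem finite_P (hG : Good (HQ Q)) [Finite F] : Finite (P (HQ Q)) := by
  haveI : Finite ↥(E (HQ Q)) := finite_E
  infer_instance

/-- **Action on the radical of a singular point.** -/
theorem not_may_ext [Finite F] (hG : Good (HQ Q)) [IsSimpleGroup (P (HQ Q))] {l r : ℕ} [hl : Fact l.Prime]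
    [CharP F l] [hr : Fact r.Prime] (hr2 : r ≠ 2) (hlr : l ≠ r) (hgood : Cfsg.Agent.H80.Fpf.Good l r) {y : W ≃ₗ[F] W}
    (hyO : y ∈ O Q) (hy : y ^ r = 1) (hy1 : y ≠ 1) : ¬ May r (P (HQ Q)) := by
  haveI := finite_P (F := F) hG
  obtain ⟨t, -, -, ho, hc, w, hw⟩ := exists_levi hG hr2 hyO hy hy1
  refine not_may_of_act hr.out hr2 hl.out hlr hgood (isPGroup_range (Q := Q) (l := l)) ho ?_
    (k := QuotientGroup.mk (sE Q w)) ⟨Multiplicative.ofAdd w, rfl⟩ hw
  rintro _ ⟨v, rfl⟩
  refine ⟨Multiplicative.ofAdd (y v.toAdd), ?_⟩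
  rw [eq_mul_inv_iff_mul_eq]
  have := congrArg (fun g : E (HQ Q) => (QuotientGroup.mk g : P (HQ Q))) (hc v.toAdd)
  exact this.symm

/-- **Action on the radical of a singular point**, multiplier of order prime to the characteristic. -/
theorem not_may_ext_abelian [Finite F] (hG : Good (HQ Q)) [IsSimpleGroup (P (HQ Q))] {l r m : ℕ} [hl : Fact l.Prime]
    [CharP F l] [hr : Fact r.Prime] (hr2 : r ≠ 2) (hm : MultDvd (P (HQ Q)) m) (hlm : ¬ l ∣ m) {y : W ≃ₗ[F] W}
    (hyO : y ∈ O Q) (hy : y ^ r = 1) (hy1 : y ≠ 1) : ¬ May r (P (HQ Q)) := by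
  haveI := finite_P (F := F) hG
  obtain ⟨t, -, -, ho, hc, w, hw⟩ := exists_levi hG hr2 hyO hy hy1
  refine not_may_of_act_abelian hr.out hr2 hl.out hm hlm (isPGroup_range (Q := Q) (l := l)) range_comm ho ?_
    (k := QuotientGroup.mk (sE Q w)) ⟨Multiplicative.ofAdd w, rfl⟩ hw
  rintro _ ⟨v, rfl⟩
  refine ⟨Multiplicative.ofAdd (y v.toAdd), ?_⟩
  rw [eq_mul_inv_iff_mul_eq]
  have := congrArg (fun g : E (HQ Q) => (QuotientGroup.mk g : P (HQ Q))) (hc v.toAdd)
  exact this.symm

/-- Siegel elements are not central. -/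
theorem sE_notMem_center (hG : Good (HQ Q)) (hQ : Nondeg Q) {w : W} (hw : w ≠ 0) :
    sE Q w ∉ Subgroup.center ↥(E (HQ Q)) := by
  intro h
  obtain ⟨c, hc⟩ := center_scalar hG h
  obtain ⟨x, hx⟩ := hQ.exists_polar_ne hw
  have h1 := hc (em F x)
  have h2 : sg Q w (em F x) = c • em F x := h1
  rw [sg_apply] at h2
  have h3 := congrArg (fun z : W × F × F => z.2.1) h2
  simp at h3
  exact hx h3

theorem sP_injective (hG : Good (HQ Q)) (hQ : Nondeg Q) : Function.Injective (sP Q) := by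
  rw [injective_iff_map_eq_one]
  intro a ha
  by_contra h
  apply sE_notMem_center hG hQ (w := a.toAdd) h
  rw [← QuotientGroup.eq_one_iff]
  exact ha

/-- The characteristic is excluded. -/
theorem not_may_char [Finite F] (hG : Good (HQ Q)) (hQ : Nondeg Q) (hd : 2 ≤ finrank F W) {l : ℕ}
    [hl : Fact l.Prime] [CharP F l] (hl2 : l ≠ 2) : ¬ May l (P (HQ Q)) := by
  haveI := finite_P (F := F) hG
  haveI hfd : FiniteDimensional F W := inferInstance
  -- two independent vectors
  obtain ⟨v, hv⟩ := exists_linearIndependent_pair_of_one_lt_finrank (R := F) (M := W) (by omega)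
    (x := (Module.finBasisOfFinrankEq F W (n := finrank F W) rfl) ⟨0, by omega⟩)
    (Basis.ne_zero _ _)
  set u := (Module.finBasisOfFinrankEq F W (n := finrank F W) rfl) ⟨0, by omega⟩ with hu
  have hinj := sP_injective hG hQ
  have hord : ∀ w : W, w ≠ 0 → orderOf (sP Q (Multiplicative.ofAdd w)) = l := by
    intro w hw
    apply orderOf_eq_prime
    · rw [← map_pow, card_char_pow (F := F) (l := l), map_one]
    · intro h
      apply hw
      have := (injective_iff_map_eq_one _).1 hinj _ h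
      exact this
  have hu0 : u ≠ 0 := Basis.ne_zero _ _
  have hv0 : v ≠ 0 := by
    have := hv.ne_zero 1
    simpa using this
  refine not_may_of_comm hl.out hl2 (a := sP Q (Multiplicative.ofAdd u)) (b := sP Q (Multiplicative.ofAdd v))
    (range_comm _ ⟨_, rfl⟩ _ ⟨_, rfl⟩) (hord u hu0) (hord v hv0) ?_
  intro h
  obtain ⟨k, hk⟩ := Subgroup.mem_zpowers_iff.1 h
  rw [← map_zpow] at hk
  have h1 := hinj hk
  have h2 : k • u = v := congrArg Multiplicative.toAdd h1
  rw [LinearIndependent.pair_iff] at hv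
  have h3 := hv (k : F) (-1) (by
    rw [← h2, Int.cast_smul_eq_zsmul]
    simp)
  exact one_ne_zero (neg_eq_zero.1 h3.2)

end Cfsg.Agent.H97.FpfO
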