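import Cfsg.Agent.H97.FpfExcl
import Cfsg.Agent.H522.FpfEmbFin
import Cfsg.Agent.H400.LieLocal
import Cfsg.Agent.S2099
import Cfsg.Agent.S0243
import Cfsg.Agent.S0280
import Cfsg.Agent.S0286
import Cfsg.Agent.S0288
import Cfsg.Agent.S0292
import Cfsg.Agent.S0294

/-!
# Fixed point free primes of orthogonal groups: odd dimension and minus type (S4228)

* `odd_core`, `minus_core` : if `May r S` then `r ∣ q ^ m + 1` and `¬ r ∣ q ^ 2 - 1`;
* `row_odd_of`, `row_minus_of` : the rows, from those of `PSL_2` and `PSU_m`.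
-/

set_option autoImplicit false
set_option linter.unusedSectionVars false
set_option linter.style.haveILetI false
set_option linter.unusedVariables false

namespace Cfsg.Agent.H97.FpfO

open QuadraticMap Module Cfsg.Agent.LieClassical.OrthCore Cfsg.Agent.LieClassical.OrthTrans
  Cfsg.Agent.LieClassical.OrthFinite Cfsg.Agent.LieClassical.OrthForms
  Cfsg.Agent.H122.OrthWt Cfsg.Agent.H122.OrthIso Cfsg.Agent.H80.Fpf Cfsg.Agent.ClassicalGeometry.OrthAut1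
  Cfsg.Agent.ClassicalGeometry.OrthSemiForms
  Cfsg.Agent.H200.RowOrth Cfsg.Agent.H200.LinFix Cfsg.Agent.BpLieP.Big

/-! ### Arithmetic -/

theorem dvd_pow_sub_iff {r q : ℕ} (hr : r.Prime) (hq : 1 ≤ q) (k : ℕ) :
    r ∣ q ^ k - 1 ↔ orderOf (q : ZMod r) ∣ k := by
  haveI : Fact r.Prime := ⟨hr⟩
  rw [orderOf_dvd_iff_pow_eq_one, ← (Nat.modEq_iff_dvd' (Nat.one_le_pow _ _ hq)), ← ZMod.natCast_eq_natCast_iff,
    Nat.cast_pow, Nat.cast_one]
  exact eq_comm

theorem arith_key {r q n : ℕ} (hr : r.Prime) (hq : 1 ≤ q) (hn : 1 ≤ n)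
    (hno : ∀ j, 1 ≤ j → j < n → ¬ r ∣ q ^ (2 * j) - 1) (h : r ∣ q ^ n - 1) : Odd n ∧ Ordd r q n := by
  rw [dvd_pow_sub_iff hr hq] at h
  have hno' : ∀ j, 1 ≤ j → j < n → ¬ orderOf (q : ZMod r) ∣ 2 * j := fun j h1 h2 h3 =>
    hno j h1 h2 ((dvd_pow_sub_iff hr hq _).2 h3)
  have hpos : 0 < orderOf (q : ZMod r) := Nat.pos_of_dvd_of_pos h hn
  have hle : orderOf (q : ZMod r) ≤ n := Nat.le_of_dvd hn h
  have hodd : Odd (orderOf (q : ZMod r)) := by
    rw [← Nat.not_even_iff_odd]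
    rintro ⟨j, hj⟩
    exact hno' j (by omega) (by omega) (by rw [hj, two_mul])
  have heq : orderOf (q : ZMod r) = n := by
    by_contra hne
    exact hno' _ hpos (lt_of_le_of_ne hle hne) (Dvd.intro_left 2 rfl)
  rw [heq] at hodd
  refine ⟨hodd, fun m hm => ?_⟩
  rw [dvd_pow_sub_iff hr hq, heq] at hm
  exact hm

theorem sq_sub_one {a : ℕ} (ha : 1 ≤ a) (m : ℕ) : a ^ (2 * m) - 1 = (a ^ m + 1) * (a ^ m - 1) := by
  have h1 : 1 ≤ a ^ m := Nat.one_le_pow _ _ ha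
  obtain ⟨k, hk⟩ := Nat.exists_eq_add_of_le h1
  rw [mul_comm 2 m, pow_mul, hk, Nat.add_sub_cancel_left]
  have : (1 + k) ^ 2 = (1 + k + 1) * k + 1 := by ring
  rw [this, Nat.add_sub_cancel]

theorem dvd_psl2 {K : Type*} [Field K] [Fintype K] {Q r : ℕ} (hK : Fintype.card K = Q) (hQ : 2 ≤ Q) (hr : r.Prime)
    (hr2 : r ≠ 2) (h : r ∣ Q + 1) : r ∣ Nat.card (Matrix.ProjectiveSpecialLinearGroup (Fin 2) K) := by
  have h1 := Cfsg.Agent.S0243.result hK 2 le_rfl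
  rw [Fin.prod_univ_two] at h1
  have h2 : (Q ^ 2 - Q ^ ((0 : Fin 2) : ℕ)) * (Q ^ 2 - Q ^ ((1 : Fin 2) : ℕ)) = (Q - 1) * ((Q - 1) * Q * (Q + 1)) := by
    obtain ⟨k, rfl⟩ := Nat.exists_eq_add_of_le (show 1 ≤ Q by omega)
    rw [Nat.add_sub_cancel_left]
    show ((1 + k) ^ 2 - (1 + k) ^ 0) * ((1 + k) ^ 2 - (1 + k) ^ 1) = _
    rw [pow_zero, pow_one]
    have e1 : (1 + k) ^ 2 - 1 = k * (k + 2) := by
      have : (1 + k) ^ 2 = k * (k + 2) + 1 := by ring
      omega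
    have e2 : (1 + k) ^ 2 - (1 + k) = k * (1 + k) := by
      have : (1 + k) ^ 2 = k * (1 + k) + (1 + k) := by ring
      omega
    rw [e1, e2]
    ring
  rw [h2, mul_left_comm] at h1
  have h3 := Nat.eq_of_mul_eq_mul_left (by omega) h1
  have h4 : r ∣ Nat.gcd 2 (Q - 1) * Nat.card (Matrix.ProjectiveSpecialLinearGroup (Fin 2) K) := by
    rw [h3]; exact Dvd.dvd.mul_left h _
  rcases hr.dvd_mul.1 h4 with h5 | h5
  · exact absurd ((Nat.prime_dvd_prime_iff_eq hr Nat.prime_two).1 (h5.trans (Nat.gcd_dvd_left _ _))) hr2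
  · exact h5

theorem dvd_psu {K : Type*} [Field K] [Fintype K] {q m r : ℕ} (hK : Fintype.card K = q ^ 2) (hq : 1 ≤ q) (hm : 3 ≤ m)
    (hmo : Odd m) (hr : r.Prime) (h : r ∣ q ^ m + 1) (h1 : ¬ r ∣ q ^ 2 - 1) : r ∣ Nat.card (Cfsg.PSU m K q) := by
  have h2 := Cfsg.Agent.S0280.result hK m (by omega)
  have h3 : r ∣ ∏ i ∈ Finset.range m, (if Even i then q ^ (i + 1) + 1 else q ^ (i + 1) - 1) := by
    refine Dvd.dvd.trans ?_ (Finset.dvd_prod_of_mem _ (Finset.mem_range.2 (show m - 1 < m by omega)))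
    obtain ⟨k, hk⟩ := hmo
    have hev : Even (m - 1) := ⟨k, by omega⟩
    rw [if_pos hev, Nat.sub_add_cancel (by omega)]
    exact h
  have h4 : ¬ r ∣ q + 1 := by
    intro h5
    apply h1
    have := sq_sub_one hq 1
    rw [pow_one, mul_one] at this
    rw [this]
    exact Dvd.dvd.mul_right h5 _
  have h5 : r ∣ Nat.gcd m (q + 1) * ((q + 1) * Nat.card (Cfsg.PSU m K q)) := by
    rw [h2]; exact Dvd.dvd.mul_left h3 _
  rcases hr.dvd_mul.1 h5 with h6 | h6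
  · exact absurd (h6.trans (Nat.gcd_dvd_right _ _)) h4
  · exact (hr.dvd_mul.1 h6).resolve_left h4

variable {F : Type} [Field F] [Fintype F]

theorem exists_char (F : Type) [Field F] [Fintype F] : ∃ (l k : ℕ), l.Prime ∧ CharP F l ∧ 1 ≤ k ∧
    Fintype.card F = l ^ k := by
  obtain ⟨l, hl⟩ := CharP.exists F
  obtain ⟨n, hlp, hn⟩ := FiniteField.card F l
  exact ⟨l, n, hlp, hl, n.pos, hn⟩

/-! ### Odd dimension -/

theorem odd_core (m : ℕ) (hm : 3 ≤ m) (hodd : Odd (Fintype.card F)) {r : ℕ} (hr : r.Prime) (hr2 : r ≠ 2)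
    (hd : r ∣ Nat.card (Cfsg.POmega F (Cfsg.quadFormOdd m F))) (hM : May r (Cfsg.POmega F (Cfsg.quadFormOdd m F))) :
    r ∣ Fintype.card F ^ m + 1 ∧ ¬ r ∣ Fintype.card F ^ 2 - 1 := by
  obtain ⟨l, f, hl, hcl, hf, hF⟩ := exists_char F
  haveI : Fact l.Prime := ⟨hl⟩
  have h2 : (2 : F) ≠ 0 := Cfsg.Agent.H522.FpfEmb.two_ne_zero_of_odd F hodd
  have hl2 : l ≠ 2 := by
    rintro rfl
    exact h2 (CharP.cast_eq_zero F 2)
  have hq1 : 1 ≤ Fintype.card F := Fintype.card_pos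
  have hG : Good (oddForm m F) := good_odd (by omega) h2
  obtain ⟨k, rfl⟩ : ∃ k, m = k + 1 := ⟨m - 1, by omega⟩
  have hiso : IsoQ (oddForm (k + 1) F) (HQ (oddForm k F)) := Cfsg.Agent.H324.Hall.isoQ_odd k
  have hlie : ∀ (G : Type) [Group G] [Finite G], Nonempty (G ≃* Cfsg.POmega F ⇑(oddForm (k + 1) F)) →
      LocChar l G := by
    intro G _ _ hGe
    rw [coe_oddForm] at hGe
    have h3 : Cfsg.IsPOmegaOddChar l G := ⟨F, _, _, hcl, k + 1, hm, hodd, hGe⟩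
    haveI := Cfsg.Agent.H400.LieSimple.isSimple_of_lie (Or.inr (Or.inr (Or.inr (Or.inl h3))) : Cfsg.IsLieTypeChar l G)
    exact Cfsg.Agent.H400.LieLocal.locChar_of_filt (Cfsg.Agent.KFacts.RgdLieCharP.hasFilt_of_lie
      (Or.inr (Or.inr (Or.inr (Or.inl h3)))))
  have hs : IsSimpleGroup (Cfsg.POmega F ⇑(oddForm (k + 1) F)) := by
    rw [coe_oddForm]
    exact Cfsg.Agent.H400.LieSimple.isSimple_of_lie (Or.inr (Or.inr (Or.inr (Or.inl
      ⟨F, _, _, hcl, k + 1, hm, hodd, ⟨MulEquiv.refl _⟩⟩))) : Cfsg.IsLieTypeChar l _)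
  have hcard := Cfsg.Agent.S0292.result (F := F) rfl hodd (k + 1) hm
  rw [← coe_oddForm] at hd hM hcard
  -- the prime is not the characteristic
  have hlr : l ≠ r := by
    rintro rfl
    exact excl_char hG hiso (nondeg_oddForm k F h2) (by
      simp only [Fintype.card_sum, Fintype.card_fin, Fintype.card_unit]; omega) hl hl2 hM
  have hrq : ¬ r ∣ Fintype.card F := by
    rw [hF]
    intro h
    exact hlr ((Nat.prime_dvd_prime_iff_eq hr hl).1 (hr.dvd_of_dvd_pow h)).symm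
  -- not in the Levi factor
  have hno : ∀ i, i < k → ¬ r ∣ Fintype.card F ^ (2 * (i + 1)) - 1 := by
    intro i hi h
    refine excl hG hiso hs hl hr hr2 hlr ?_ (Or.inl hl2) hM
    rw [coe_oddForm, Cfsg.Agent.S0286.result (F := F) rfl hodd]
    exact Dvd.dvd.mul_left (h.trans (Finset.dvd_prod_of_mem (fun i => Fintype.card F ^ (2 * (i + 1)) - 1)
      (Finset.mem_range.2 hi))) _
  have hno1 : ¬ r ∣ Fintype.card F ^ 2 - 1 := by
    have := hno 0 (by omega)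
    simpa using this
  refine ⟨?_, hno1⟩
  -- divisibility
  have h3 : r ∣ Fintype.card F ^ (2 * (k + 1)) - 1 := by
    have h4 : r ∣ 2 * Nat.card (Cfsg.POmega F ⇑(oddForm (k + 1) F)) := Dvd.dvd.mul_left hd 2
    rw [hcard, Finset.prod_range_succ] at h4
    rcases hr.dvd_mul.1 h4 with h5 | h5
    · exact absurd (hr.dvd_of_dvd_pow h5) hrq
    · rcases hr.dvd_mul.1 h5 with h6 | h6
      · obtain ⟨i, hi, hi2⟩ := (hr.prime.dvd_finsetProd_iff _).1 h6
        exact absurd hi2 (hno i (Finset.mem_range.1 hi))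
      · exact h6
  rw [sq_sub_one hq1] at h3
  rcases hr.dvd_mul.1 h3 with h4 | h4
  · exact h4
  · exfalso
    obtain ⟨h5, h6⟩ := arith_key hr hq1 (by omega) (fun j h1 h2 h3 => hno (j - 1) (by omega)
      (by rwa [Nat.sub_add_cancel h1])) h4
    refine excl_ts (d := k + 1) hG hs hl hr hr2 hlr hlie (by rwa [Nat.card_eq_fintype_card])
      (by rwa [Nat.card_eq_fintype_card]) h5 hm ?_ hd hM
    simp only [Fintype.card_sum, Fintype.card_fin, Fintype.card_unit]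
    omega

/-- **The row of `PΩ_{2m+1}(q)`**, from the rows of `PSL_2` and `PSU_m`. -/
theorem row_odd_of
    (hL2 : ∀ (K : Type) [Field K] [Fintype K], 4 ≤ Fintype.card K →
      Row (Matrix.ProjectiveSpecialLinearGroup (Fin 2) K))
    (hU : ∀ (K : Type) [Field K] [Fintype K] (n q : ℕ), Fintype.card K = q ^ 2 → 3 ≤ n → ¬ (n = 3 ∧ q = 2) →
      Row (Cfsg.PSU n K q))
    (m : ℕ) (hm : 3 ≤ m) (hodd : Odd (Fintype.card F)) : Row (Cfsg.POmega F (Cfsg.quadFormOdd m F)) := by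
  have hq2 : 2 ≤ Fintype.card F := Fintype.one_lt_card
  have hqm : 4 ≤ Fintype.card F ^ m := by
    calc 4 = 2 ^ 2 := by norm_num
      _ ≤ 2 ^ m := Nat.pow_le_pow_right (by norm_num) (by omega)
      _ ≤ _ := Nat.pow_le_pow_left hq2 m
  rcases Nat.even_or_odd m with he | ho
  · obtain ⟨K, i1, i2, hK, h⟩ := Cfsg.Agent.H522.FpfEmb.odd_psl F he (by omega) hodd
    obtain ⟨a, b, hab⟩ := hL2 K (by rw [hK]; exact hqm)
    refine ⟨a, b, fun r hr hr2 hd hM => hab r hr hr2 ?_ (h hM)⟩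
    exact dvd_psl2 hK (by omega) hr hr2 (odd_core m hm hodd hr hr2 hd hM).1
  · obtain ⟨K, i1, i2, hK, h⟩ := Cfsg.Agent.H522.FpfEmb.odd_psu F ho hm hodd
    obtain ⟨a, b, hab⟩ := hU K m (Fintype.card F) hK hm (by
      rintro ⟨-, h⟩
      rw [h] at hodd
      exact absurd hodd (by decide))
    refine ⟨a, b, fun r hr hr2 hd hM => hab r hr hr2 ?_ (h hM)⟩
    have h1 := odd_core m hm hodd hr hr2 hd hM
    exact dvd_psu hK (by omega) hm ho hr h1.1 h1.2

/-! ### Minus type -/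

theorem minus_core (m : ℕ) (hm : 4 ≤ m) (a b : F)
    (hab : ∀ z₁ z₂ : F, z₁ ^ 2 + a * z₁ * z₂ + b * z₂ ^ 2 = 0 → z₁ = 0 ∧ z₂ = 0) {r : ℕ} (hr : r.Prime) (hr2 : r ≠ 2)
    (hd : r ∣ Nat.card (Cfsg.POmega F (Cfsg.quadFormMinus (m - 1) F a b)))
    (hM : May r (Cfsg.POmega F (Cfsg.quadFormMinus (m - 1) F a b))) :
    r ∣ Fintype.card F ^ m + 1 ∧ ¬ r ∣ Fintype.card F ^ 2 - 1 := by
  obtain ⟨l, f, hl, hcl, hf, hF⟩ := exists_char F
  haveI : Fact l.Prime := ⟨hl⟩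
  have hq1 : 1 ≤ Fintype.card F := Fintype.card_pos
  obtain ⟨k, rfl⟩ : ∃ k, m = k + 2 := ⟨m - 2, by omega⟩
  have hk1 : k + 2 - 1 = k + 1 := by omega
  have hG : Good (minusForm (k + 1) F a b) := good_minus (by omega) a b hab
  have hiso : IsoQ (minusForm (k + 1) F a b) (HQ (minusForm k F a b)) := isoQ_minus k a b
  have hlie' : ∀ (G : Type) [Group G], Nonempty (G ≃* Cfsg.POmega F ⇑(minusForm (k + 1) F a b)) →
      Cfsg.IsPOmegaMinusChar l G := by
    intro G _ hGe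
    rw [coe_minusForm] at hGe
    exact ⟨F, inferInstance, inferInstance, hcl, k + 2, a, b, hm, hab, hGe⟩
  have hlie : ∀ (G : Type) [Group G] [Finite G], Nonempty (G ≃* Cfsg.POmega F ⇑(minusForm (k + 1) F a b)) →
      LocChar l G := by
    intro G _ _ hGe
    have h3 := hlie' G hGe
    haveI := Cfsg.Agent.H400.LieSimple.isSimple_of_lie
      (Or.inr (Or.inr (Or.inr (Or.inr (Or.inr (Or.inl h3))))) : Cfsg.IsLieTypeChar l G)
    exact Cfsg.Agent.H400.LieLocal.locChar_of_filt (Cfsg.Agent.KFacts.RgdLieCharP.hasFilt_of_lie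
      (Or.inr (Or.inr (Or.inr (Or.inr (Or.inr (Or.inl h3)))))))
  have hs : IsSimpleGroup (Cfsg.POmega F ⇑(minusForm (k + 1) F a b)) :=
    Cfsg.Agent.H400.LieSimple.isSimple_of_lie
      (Or.inr (Or.inr (Or.inr (Or.inr (Or.inr (Or.inl (hlie' _ ⟨MulEquiv.refl _⟩)))))) : Cfsg.IsLieTypeChar l _)
  have hcard := Cfsg.Agent.S0294.result (F := F) rfl (k + 2) hm a b hab
  have hmult : MultDvd (Cfsg.POmega F (Cfsg.quadFormMinus (k + 2 - 1) F a b)) (Nat.gcd 4 (Fintype.card F ^ (k + 2) + 1)) :=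
    multDvd_of_cyclic (Nat.gcd_pos_of_pos_left _ (by norm_num)).ne'
      (Cfsg.Agent.S2099.result (F := F) rfl (k + 2) hm a b hab)
  rw [hk1, ← coe_minusForm] at hd hM hcard hmult
  have hlm : ¬ l ∣ Nat.gcd 4 (Fintype.card F ^ (k + 2) + 1) := by
    intro h
    have h1 : l ∣ Fintype.card F ^ (k + 2) := by
      rw [hF]
      exact dvd_pow (dvd_pow_self l (by omega)) (by omega)
    have h2 : l ∣ 1 := (Nat.dvd_add_right h1).1 (h.trans (Nat.gcd_dvd_right _ _))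
    exact hl.one_lt.ne' (Nat.dvd_one.1 h2)
  -- the prime is not the characteristic
  have hlr : l ≠ r := by
    rintro rfl
    exact excl_char hG hiso (nondeg_minusForm k F a b hab) (by
      simp only [Fintype.card_sum, Fintype.card_fin]; omega) hl hr2 hM
  have hrq : ¬ r ∣ Fintype.card F := by
    rw [hF]
    intro h
    exact hlr ((Nat.prime_dvd_prime_iff_eq hr hl).1 (hr.dvd_of_dvd_pow h)).symm
  -- not in the Levi factor
  have hno0 : ¬ r ∣ Nat.card (Cfsg.isometryGroup F ⇑(minusForm k F a b)) := fun h =>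
    excl hG hiso hs hl hr hr2 hlr h (Or.inr ⟨_, hmult, hlm⟩) hM
  have hcard0 := Cfsg.Agent.S0288.result (F := F) rfl (k + 1) (by omega) a b hab
  rw [Nat.add_sub_cancel] at hcard0
  rw [coe_minusForm, hcard0] at hno0
  have hno : ∀ i, i < k → ¬ r ∣ Fintype.card F ^ (2 * (i + 1)) - 1 := by
    intro i hi h
    exact hno0 (Dvd.dvd.mul_left (h.trans (Finset.dvd_prod_of_mem (fun i => Fintype.card F ^ (2 * (i + 1)) - 1)
      (Finset.mem_range.2 hi))) _)
  have hnop : ¬ r ∣ Fintype.card F ^ (k + 1) + 1 := fun h =>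
    hno0 (Dvd.dvd.mul_right (Dvd.dvd.mul_left h _) _)
  have hno1 : ¬ r ∣ Fintype.card F ^ 2 - 1 := by
    have := hno 0 (by omega)
    simpa using this
  refine ⟨?_, hno1⟩
  -- divisibility
  have h4 : r ∣ Nat.gcd 4 (Fintype.card F ^ (k + 2) + 1) * Nat.card (Cfsg.POmega F ⇑(minusForm (k + 1) F a b)) :=
    Dvd.dvd.mul_left hd _
  rw [hcard, Finset.prod_range_succ] at h4
  rcases hr.dvd_mul.1 h4 with h5 | h5
  · rcases hr.dvd_mul.1 h5 with h6 | h6
    · exact absurd (hr.dvd_of_dvd_pow h6) hrq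
    · exact h6
  · rcases hr.dvd_mul.1 h5 with h6 | h6
    · obtain ⟨i, hi, hi2⟩ := (hr.prime.dvd_finsetProd_iff _).1 h6
      exact absurd hi2 (hno i (Finset.mem_range.1 hi))
    · exfalso
      rw [sq_sub_one hq1] at h6
      have h7 := (hr.dvd_mul.1 h6).resolve_left hnop
      obtain ⟨h8, h9⟩ := arith_key hr hq1 (by omega) (fun j h1 h2 h3 => hno (j - 1) (by omega)
        (by rwa [Nat.sub_add_cancel h1])) h7
      refine excl_ts (d := k + 1) hG hs hl hr hr2 hlr hlie (by rwa [Nat.card_eq_fintype_card])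
        (by rwa [Nat.card_eq_fintype_card]) h8 (by omega) ?_ hd hM
      simp only [Fintype.card_sum, Fintype.card_fin]
      omega

/-- **The row of `PΩ^-_{2m}(q)`**, from the rows of `PSL_2` and `PSU_m`. -/
theorem row_minus_of
    (hL2 : ∀ (K : Type) [Field K] [Fintype K], 4 ≤ Fintype.card K →
      Row (Matrix.ProjectiveSpecialLinearGroup (Fin 2) K))
    (hU : ∀ (K : Type) [Field K] [Fintype K] (n q : ℕ), Fintype.card K = q ^ 2 → 3 ≤ n → ¬ (n = 3 ∧ q = 2) →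
      Row (Cfsg.PSU n K q))
    (m : ℕ) (hm : 4 ≤ m) (a b : F)
    (hab : ∀ z₁ z₂ : F, z₁ ^ 2 + a * z₁ * z₂ + b * z₂ ^ 2 = 0 → z₁ = 0 ∧ z₂ = 0) :
    Row (Cfsg.POmega F (Cfsg.quadFormMinus (m - 1) F a b)) := by
  have hq2 : 2 ≤ Fintype.card F := Fintype.one_lt_card
  have hqm : 4 ≤ Fintype.card F ^ m := by
    calc 4 = 2 ^ 2 := by norm_num
      _ ≤ 2 ^ m := Nat.pow_le_pow_right (by norm_num) (by omega)
      _ ≤ _ := Nat.pow_le_pow_left hq2 m
  rcases Nat.even_or_odd m with he | ho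
  · obtain ⟨K, i1, i2, hK, h⟩ := Cfsg.Agent.H522.FpfEmb.minus_psl F he (by omega) a b hab
    obtain ⟨c, d, hcd⟩ := hL2 K (by rw [hK]; exact hqm)
    refine ⟨c, d, fun r hr hr2 hd hM => hcd r hr hr2 ?_ (h hM)⟩
    exact dvd_psl2 hK (by omega) hr hr2 (minus_core m hm a b hab hr hr2 hd hM).1
  · obtain ⟨K, i1, i2, hK, h⟩ := Cfsg.Agent.H522.FpfEmb.minus_psu F ho (by omega) (by omega) a b hab
    obtain ⟨c, d, hcd⟩ := hU K m (Fintype.card F) hK (by omega) (by omega)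
    refine ⟨c, d, fun r hr hr2 hd hM => hcd r hr hr2 ?_ (h hM)⟩
    have h1 := minus_core m hm a b hab hr hr2 hd hM
    exact dvd_psu hK (by omega) (by omega) ho hr h1.1 h1.2

end Cfsg.Agent.H97.FpfO
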