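import Cfsg.Agent.H97.FpfHQ

/-!
# Fixed point free primes of orthogonal groups: totally singular subspaces

* `exists_ts` : an element of order `r` of `E Q` with `ord (q mod r) = d` odd, `finrank F V < 3 * d`, leaves
  invariant a totally singular subspace of dimension `d`;
* `not_may_ts` : then `¬ May r (P Q)` if all `l`-local subgroups of `P Q` have characteristic `l` (and `Good l r`).
-/

set_option autoImplicit false
set_option linter.unusedSectionVars false
set_option linter.style.haveILetI false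
set_option linter.unusedVariables false

namespace Cfsg.Agent.H97.FpfO

open QuadraticMap Module Cfsg.Agent.LieClassical.OrthCore Cfsg.Agent.LieClassical.OrthTrans
  Cfsg.Agent.H122.OrthWt Cfsg.Agent.H80.Fpf Cfsg.Agent.ClassicalGeometry.OrthAut1
  Cfsg.Agent.H200.RowOrth Cfsg.Agent.H200.LinFix Cfsg.Agent.BpLieP.Big

variable {F V : Type*} [Field F] [AddCommGroup V] [Module F V] {Q : QuadraticForm F V}

section iso

variable {b : LinearMap.BilinForm F V} [Finite V] {l : ℕ} [hl : Fact l.Prime]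

/-- The invariant totally isotropic subspace (from the proof of `comm_split`, helper200). -/
theorem exists_ti [Finite F] (hl2 : l ≠ 2) (hlF : (l : F) ≠ 0) {y : Module.End F V} (hy : y ^ l = 1) (hyb : Isom b y)
    (hb : ∀ v, (∀ u, b u v = 0) → v = 0) {d : ℕ} (hd : Ordd l (Nat.card F) d) (hld : l ∣ Nat.card F ^ d - 1)
    (hdo : Odd d) (hfr : finrank F (R y) = 2 * d) :
    ∃ E : Submodule F V, finrank F E = d ∧ (∀ w ∈ E, y w ∈ E) ∧ Irr y E ∧ ∀ v ∈ E, ∀ u ∈ E, b u v = 0 := by
  have hfd : FiniteDimensional F V := inferInstance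
  have hd0 : 0 < d := hdo.pos
  have hyW : ∀ w ∈ R y, y w ∈ R y := fun w hw => R_inv rfl hw
  have hW : R y ≠ ⊥ := by
    intro h
    rw [h, finrank_bot] at hfr
    omega
  have hq1 : 1 ≤ Nat.card F ^ d := Nat.one_le_pow _ _ Nat.card_pos
  -- a proper invariant subspace
  obtain ⟨E, hEW, hyE, hE0, hEne⟩ : ∃ E : Submodule F V, E ≤ R y ∧ (∀ w ∈ E, y w ∈ E) ∧ E ≠ ⊥ ∧ E ≠ R y := by
    by_contra hcon
    push Not at hcon
    have hirr : Irr y (R y) := fun U hU hyU => by
      by_cases h : U = ⊥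
      · exact Or.inl h
      · exact Or.inr (hcon U hU hyU h)
    obtain ⟨w, hw, hw0⟩ := Submodule.exists_mem_ne_zero_of_ne_bot hW
    obtain ⟨m, hm, hU⟩ := unitary_on (l := l - 1) hW hyW hirr b (fun u _ v _ => hyb u v)
      (fun v hv hv' => nondeg_R hyb hb hy hlF hv hv')
      (by rw [Nat.sub_add_cancel hl.out.one_le, hy])
      ⟨w, hw, fun h1 => hw0 (eq_zero_of_mem hy hlF (fix_of_sq hl2 hy h1) hw)⟩
    have hmd : m = d := by omega
    subst hmd
    apply hw0
    refine eq_zero_of_mem hy hlF ?_ hw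
    refine fix_of_coprime (hU y hyW (fun w _ => rfl) (fun u _ v _ => hyb u v) w hw)
      (by rw [hy]; rfl) ?_
    refine ((Nat.Prime.coprime_iff_not_dvd hl.out).2 fun h => ?_).symm
    apply hl2
    have h3 : l ∣ 2 := by
      have h4 : Nat.card F ^ m + 1 - (Nat.card F ^ m - 1) = 2 := by omega
      rw [← h4]
      exact Nat.dvd_sub h hld
    exact (Nat.prime_dvd_prime_iff_eq hl.out Nat.prime_two).1 h3
  have hEd : finrank F E = d := by
    obtain ⟨c, hc⟩ := dvd_finrank_le hd hlF hy hEW hyE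
    have h1 : finrank F E < finrank F (R y) := Submodule.finrank_lt_finrank_of_lt (lt_of_le_of_ne hEW hEne)
    have h2 : finrank F E ≠ 0 := fun h => hE0 (Submodule.finrank_eq_zero.1 h)
    have h3 : c < 2 := by
      by_contra h
      push Not at h
      nlinarith
    interval_cases c <;> omega
  have hirr : Irr y E := irr_of_lt hd hlF hy hEW hyE (by omega)
  have hnotEven : ¬ Even (finrank F E) := by rw [hEd]; exact Nat.not_even_iff_odd.2 hdo
  -- totally isotropic
  have hti : ∀ v ∈ E, ∀ u ∈ E, b u v = 0 := by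
    rcases rad_of_irr hy hyb hyE hirr with h | h
    · exact absurd (even_of_irr hl2 hlF hy hEW hyE hirr hE0 b (fun u _ v _ => hyb u v) h) hnotEven
    · exact h
  exact ⟨E, hEd, hyE, hirr, hti⟩

end iso

variable [Finite V]

theorem exists_ts [Finite F] (hG : Good Q) {r d : ℕ} [hr : Fact r.Prime] (hr2 : r ≠ 2) (hrF : (r : F) ≠ 0)
    (hd : Ordd r (Nat.card F) d) (hrd : r ∣ Nat.card F ^ d - 1) (hdo : Odd d) (hd2 : 2 ≤ d)
    (hV : finrank F V < 3 * d) {y : ↥(E Q)} (hy : y ^ r = 1) (hy1 : y ≠ 1) :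
    ∃ U : Submodule F V, finrank F U = d ∧ (∀ u ∈ U, en Q y u ∈ U) ∧ (∀ u ∈ U, Q u = 0) := by
  have hfd : FiniteDimensional F V := inferInstance
  have hy' : en Q y ^ r = 1 := by rw [← map_pow, hy, map_one]
  obtain ⟨E, hEd, hyE, hirr, hti⟩ := exists_ti hr2 hrF hy' (isom_en y) (polar_nondeg hG) hd hrd hdo
    (finrank_R_odd hG hr2 hrF hd hdo hV hy hy1)
  refine ⟨E, hEd, hyE, ?_⟩
  have hpol : ∀ u ∈ E, ∀ v ∈ E, polar Q u v = 0 := fun u hu v hv => hti v hv u hu
  by_cases h2 : (2 : F) = 0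
  · let U : Submodule F V :=
      { carrier := {v | v ∈ E ∧ Q v = 0}
        add_mem' := fun {a c} ha hc => ⟨E.add_mem ha.1 hc.1, by
          rw [Q_add, ha.2, hc.2, hpol a ha.1 c hc.1, add_zero, add_zero]⟩
        zero_mem' := ⟨E.zero_mem, QuadraticMap.map_zero _⟩
        smul_mem' := fun c v hv => ⟨E.smul_mem c hv.1, by rw [QuadraticMap.map_smul, hv.2, smul_zero]⟩ }
    rcases hirr U (fun v hv => hv.1) (by
      rintro v ⟨hv, hv'⟩
      exact ⟨hyE v hv, by rw [en_apply, E_le_O y.2]; exact hv'⟩) with h | h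
    · exfalso
      -- `Q` is injective on `E`
      have hinj : Function.Injective (fun v : E => Q (v : V)) := by
        rintro ⟨u, hu⟩ ⟨v, hv⟩ huv
        have h3 : Q u = Q v := huv
        have h1 : (u + v : V) ∈ U := ⟨E.add_mem hu hv, by
          rw [Q_add, hpol u hu v hv, h3, add_zero, ← two_mul, h2, zero_mul]⟩
        rw [h, Submodule.mem_bot] at h1
        apply Subtype.ext
        show u = v
        have h4 : v = -v := by
          rw [← sub_eq_zero, sub_neg_eq_add, ← two_smul F v, h2, zero_smul]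
        rw [h4]
        exact eq_neg_of_add_eq_zero_left h1
      have h3 := Nat.card_le_card_of_injective _ hinj
      rw [Module.natCard_eq_pow_finrank (K := F) (V := E), hEd] at h3
      have h4 : 2 ≤ Nat.card F := Finite.one_lt_card
      have h5 : Nat.card F ^ 2 ≤ Nat.card F ^ d := Nat.pow_le_pow_right (by omega) hd2
      nlinarith
    · intro u hu
      have h1 : u ∈ U := by rw [h]; exact hu
      exact h1.2
  · intro u hu
    have h1 := hpol u hu u hu
    rw [polar_self'] at h1
    exact (mul_eq_zero.1 h1).resolve_left h2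

/-- the pointwise stabilizer of `U^⊥` and `V / U` -/
def KU (Q : QuadraticForm F V) (U : Submodule F V) : Subgroup ↥(E Q) where
  carrier := {g | (∀ v, en Q g v - v ∈ U) ∧ ∀ v, (∀ u ∈ U, polar Q u v = 0) → en Q g v = v}
  one_mem' := ⟨fun v => by rw [map_one, Module.End.one_apply, sub_self]; exact U.zero_mem,
    fun v _ => by rw [map_one, Module.End.one_apply]⟩
  mul_mem' := by
    rintro g h ⟨hg, hg'⟩ ⟨hh, hh'⟩
    refine ⟨fun v => ?_, fun v hv => ?_⟩
    · have e : en Q (g * h) v - v = (en Q g (en Q h v) - en Q h v) + (en Q h v - v) := by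
        rw [map_mul, Module.End.mul_apply]; abel
      rw [e]
      exact U.add_mem (hg _) (hh _)
    · rw [map_mul, Module.End.mul_apply, hh' v hv, hg' v hv]
  inv_mem' := by
    rintro g ⟨hg, hg'⟩
    have hinv : ∀ v : V, en Q g (en Q g⁻¹ v) = v := fun v => by
      rw [← Module.End.mul_apply, ← map_mul, mul_inv_cancel, map_one, Module.End.one_apply]
    have hinv' : ∀ v : V, en Q g⁻¹ (en Q g v) = v := fun v => by
      rw [← Module.End.mul_apply, ← map_mul, inv_mul_cancel, map_one, Module.End.one_apply]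
    refine ⟨fun v => ?_, fun v hv => ?_⟩
    · have h1 := hg (en Q g⁻¹ v)
      rw [hinv] at h1
      have h2 := U.neg_mem h1
      rwa [neg_sub] at h2
    · have h1 := hg' v hv
      conv_lhs => rw [← h1]
      exact hinv' v

theorem mem_KU {U : Submodule F V} {g : ↥(E Q)} : g ∈ KU Q U ↔ (∀ v, en Q g v - v ∈ U) ∧
    ∀ v, (∀ u ∈ U, polar Q u v = 0) → en Q g v = v := Iff.rfl

theorem KU_conj {U : Submodule F V} {y : ↥(E Q)} (hyU : ∀ u ∈ U, en Q y u ∈ U) {g : ↥(E Q)} (hg : g ∈ KU Q U) :
    y * g * y⁻¹ ∈ KU Q U := by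
  obtain ⟨h1, h2⟩ := hg
  have hinv : ∀ v : V, en Q y (en Q y⁻¹ v) = v := fun v => by
    rw [← Module.End.mul_apply, ← map_mul, mul_inv_cancel, map_one, Module.End.one_apply]
  refine ⟨fun v => ?_, fun v hv => ?_⟩
  · have h3 := hyU _ (h1 (en Q y⁻¹ v))
    rw [map_sub, hinv] at h3
    rw [map_mul, map_mul, Module.End.mul_apply, Module.End.mul_apply]
    exact h3
  · rw [map_mul, map_mul, Module.End.mul_apply, Module.End.mul_apply, h2, hinv]
    intro u hu
    have h3 := polar_map (E_le_O y.2) u (en Q y⁻¹ v)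
    rw [← h3]
    have h4 : (y : V ≃ₗ[F] V) (en Q y⁻¹ v) = v := hinv v
    rw [h4]
    exact hv _ (hyU u hu)

theorem KU_pow {U : Submodule F V} (hU : ∀ u ∈ U, Q u = 0) {l : ℕ} [hl : Fact l.Prime] [CharP F l] {g : ↥(E Q)}
    (hg : g ∈ KU Q U) : g ^ l = 1 := by
  obtain ⟨h1, h2⟩ := hg
  have hpol : ∀ u ∈ U, ∀ v ∈ U, polar Q u v = 0 := by
    intro u hu v hv
    rw [polar, hU _ (U.add_mem hu hv), hU u hu, hU v hv, sub_zero, sub_zero]
  have h3 : ∀ v, en Q g (en Q g v - v) = en Q g v - v := fun v =>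
    h2 _ fun u hu => hpol u hu _ (h1 v)
  have h4 : ∀ (n : ℕ) (v : V), (en Q g ^ n) v = v + n • (en Q g v - v) := by
    intro n
    induction n with
    | zero => intro v; simp
    | succ n ih =>
      intro v
      rw [pow_succ', Module.End.mul_apply, ih, map_add, map_nsmul, h3, succ_nsmul]
      abel
  apply en_injective
  refine LinearMap.ext fun v => ?_
  rw [map_pow, h4, map_one, Module.End.one_apply, ← Nat.cast_smul_eq_nsmul F, CharP.cast_eq_zero, zero_smul, add_zero]

/-- two independent vectors of a totally singular subspace give a nontrivial element -/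
theorem exists_mem_KU (hG : Good Q) {U : Submodule F V} (hU : ∀ u ∈ U, Q u = 0) (h2 : 2 ≤ finrank F U) :
    ∃ g ∈ KU Q U, g ∉ Subgroup.center ↥(E Q) := by
  have hfd : FiniteDimensional F V := inferInstance
  have hpol : ∀ u ∈ U, ∀ v ∈ U, polar Q u v = 0 := by
    intro u hu v hv
    rw [polar, hU _ (U.add_mem hu hv), hU u hu, hU v hv, sub_zero, sub_zero]
  let B := Module.finBasisOfFinrankEq F U (n := finrank F U) rfl
  obtain ⟨⟨v, hvU⟩, hv⟩ := exists_linearIndependent_pair_of_one_lt_finrank (R := F) (M := U) (by omega)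
    (x := B ⟨0, by omega⟩) (Basis.ne_zero _ _)
  obtain ⟨⟨u, huU⟩, hu⟩ : ∃ u : U, u = B ⟨0, by omega⟩ := ⟨_, rfl⟩
  rw [← hu] at hv
  rw [LinearIndependent.pair_iff] at hv
  have hu0 : u ≠ 0 := by
    rintro rfl
    have := hv 1 0 (by ext; simp)
    exact one_ne_zero this.1
  refine ⟨⟨siegel Q u v (hU u huU) (hpol u huU v hvU), siegel_mem_E _ _⟩, ⟨fun x => ?_, fun x hx => ?_⟩, ?_⟩
  · show siegel Q u v (hU u huU) (hpol u huU v hvU) x - x ∈ U
    rw [siegel_apply, hU v hvU]
    have e : x + polar Q u x • v - polar Q v x • u - (0 * polar Q u x) • u - x =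
      polar Q u x • v - polar Q v x • u := by
      rw [zero_mul, zero_smul]; abel
    rw [e]
    exact U.sub_mem (U.smul_mem _ hvU) (U.smul_mem _ huU)
  · show siegel Q u v (hU u huU) (hpol u huU v hvU) x = x
    rw [siegel_apply, hx u huU, hx v hvU]
    simp
  · intro hc
    obtain ⟨c, hc⟩ := center_scalar hG hc
    have hc1 : c = 1 := by
      have h1 : siegel Q u v (hU u huU) (hpol u huU v hvU) u = c • u := hc u
      rw [siegel_apply, polar_self_of_sing (hU u huU), hpol v hvU u huU] at h1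
      simp at h1
      have h3 : (c - 1) • u = 0 := by rw [sub_smul, one_smul, ← h1, sub_self]
      rcases smul_eq_zero.1 h3 with h4 | h4
      · exact sub_eq_zero.1 h4
      · exact absurd h4 hu0
    apply hu0
    apply hG.nondeg
    intro x
    have h1 : siegel Q u v (hU u huU) (hpol u huU v hvU) x = c • x := hc x
    rw [siegel_apply, hc1, one_smul, hU v hvU] at h1
    have h3 : polar Q u x • v - polar Q v x • u = 0 := by
      have e : x + polar Q u x • v - polar Q v x • u - (0 * polar Q u x) • u = x + (polar Q u x • v - polar Q v x • u) := by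
        rw [zero_mul, zero_smul]; abel
      rw [e] at h1
      exact left_eq_add.1 h1.symm
    have h4 := hv (-polar Q v x) (polar Q u x) (by
      ext
      show -polar Q v x • u + polar Q u x • v = 0
      rw [← h3]; module)
    exact h4.2

/-- **Elements normalising a totally singular subspace.** -/
theorem not_may_ts [Finite F] (hG : Good Q) [IsSimpleGroup (P Q)] {l r : ℕ} [hl : Fact l.Prime]
    [CharP F l] [hr : Fact r.Prime] (hr2 : r ≠ 2) (hlr : l ≠ r) (hgood : Cfsg.Agent.H80.Fpf.Good l r)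
    (hloc : LocChar l (P Q)) {y : ↥(E Q)} (hy : y ^ r = 1) (hy1 : y ≠ 1) {U : Submodule F V}
    (hyU : ∀ u ∈ U, en Q y u ∈ U) (hU : ∀ u ∈ U, Q u = 0) (h2 : 2 ≤ finrank F U) : ¬ May r (P Q) := by
  haveI : Finite ↥(E Q) := finite_E
  have hord := orderOf_mk hG (hr.out.odd_of_ne_two hr2) hy hy1
  refine not_may_of_loc hr.out hr2 hl.out hlr hgood hloc (K := (KU Q U).map (QuotientGroup.mk' _)) ?_ ?_ hord ?_
  · rintro ⟨_, g, hg, rfl⟩
    refine ⟨1, Subtype.ext ?_⟩
    show (QuotientGroup.mk' (Subgroup.center ↥(E Q)) g) ^ l ^ 1 = 1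
    rw [pow_one, ← map_pow, KU_pow hU hg, map_one]
  · intro h
    obtain ⟨g, hg, hc⟩ := exists_mem_KU hG hU h2
    apply hc
    rw [← QuotientGroup.eq_one_iff]
    have h1 : (QuotientGroup.mk' (Subgroup.center ↥(E Q)) g) ∈ (KU Q U).map (QuotientGroup.mk' _) := ⟨g, hg, rfl⟩
    rw [h, Subgroup.mem_bot] at h1
    exact h1
  · have hle : ∀ k ∈ (KU Q U).map (QuotientGroup.mk' (Subgroup.center ↥(E Q))),
        (QuotientGroup.mk y : P Q) * k * (QuotientGroup.mk y : P Q)⁻¹ ∈ (KU Q U).map (QuotientGroup.mk' _) := by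
      rintro _ ⟨g, hg, rfl⟩
      exact ⟨y * g * y⁻¹, KU_conj hyU hg, rfl⟩
    have hle2 : ∀ (n : ℕ), ∀ k ∈ (KU Q U).map (QuotientGroup.mk' (Subgroup.center ↥(E Q))),
        (QuotientGroup.mk y : P Q) ^ n * k * ((QuotientGroup.mk y : P Q) ^ n)⁻¹ ∈
          (KU Q U).map (QuotientGroup.mk' _) := by
      intro n
      induction n with
      | zero => intro k hk; simpa using hk
      | succ n ih =>
        intro k hk
        have h1 := hle _ (ih k hk)
        have e : (QuotientGroup.mk y : P Q) ^ (n + 1) * k * ((QuotientGroup.mk y : P Q) ^ (n + 1))⁻¹ =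
          (QuotientGroup.mk y : P Q) * ((QuotientGroup.mk y : P Q) ^ n * k * ((QuotientGroup.mk y : P Q) ^ n)⁻¹) *
            (QuotientGroup.mk y : P Q)⁻¹ := by
          rw [pow_succ']; group
        rw [e]
        exact h1
    rw [Subgroup.mem_normalizer_iff]
    intro k
    refine ⟨hle k, fun hk => ?_⟩
    have h1 := hle2 (r - 1) _ hk
    have e : (QuotientGroup.mk y : P Q) ^ (r - 1) * ((QuotientGroup.mk y : P Q) * k * (QuotientGroup.mk y : P Q)⁻¹) *
        ((QuotientGroup.mk y : P Q) ^ (r - 1))⁻¹ = (QuotientGroup.mk y : P Q) ^ r * k * ((QuotientGroup.mk y : P Q) ^ r)⁻¹ := by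
      obtain ⟨m, hm⟩ : ∃ m, r = m + 1 := ⟨r - 1, by have := hr.out.two_le; omega⟩
      rw [hm, Nat.add_sub_cancel, pow_succ]; group
    rw [e] at h1
    have h3 : (QuotientGroup.mk y : P Q) ^ r = 1 := by rw [← hord]; exact pow_orderOf_eq_one _
    rw [h3] at h1
    simpa using h1

end Cfsg.Agent.H97.FpfO
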