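import Cfsg.Agent.H875.SpRatEnd

/-!
Odd characteristic versions of `H875.odd_step` and `H875.full_of_goal` for rational structures of
dimension at least three (in particular for `Sp₄`).
-/

set_option autoImplicit false
open Cfsg
open scoped Matrix
open Cfsg.Agent.ClassicalGeometry.SympBasic Cfsg.Agent.ClassicalGeometry.SympSiegel
open Cfsg.Agent.H875

namespace Cfsg.Agent.H97.SpSubTwo

variable {F : Type*} [Field F] {m : ℕ}

local notation "V" => (Fin m ⊕ Fin m → F)
local notation "G" => Matrix.symplecticGroup (Fin m) F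
local notation "f" => sympForm m F

variable {ζ : F} {F₀ : Subfield F} {V₀ : Submodule F₀ (Fin m ⊕ Fin m → F)}

variable [Finite F]

omit [Finite F] in
/-- Odd characteristic, centre in a rational hyperbolic plane. -/
theorem odd_two (h2 : (2 : F) ≠ 0) (h : RatStr F₀ ζ V₀) (hdim : 2 < Module.finrank F₀ V₀)
    {M : Subgroup G} (hM : ∀ g : G, (∀ v ∈ V₀, g • v ∈ V₀) → g ∈ M) {x y : V} (hx : x ∈ V₀)
    (hy : y ∈ V₀) (hxy : ζ * f x y = 1) {α β : F} (hαβ : β / α ∉ F₀)
    (hu : ∀ c ∈ F₀, TT ζ (α • x + β • y) c ∈ M) : Goal ζ F₀ V₀ M := by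
  classical
  set v₂ : V := α • x + β • y with hv₂
  have hα : α ≠ 0 := ne_zero_of_div_right hαβ
  have hyx : ζ * f y x = -1 := by rw [sympForm_swap, mul_neg, hxy]
  -- a rational vector orthogonal to the plane
  let S : Submodule F₀ V₀ := Submodule.span F₀ (({⟨x, hx⟩, ⟨y, hy⟩} : Finset V₀) : Set V₀)
  have hS : Module.finrank F₀ S ≤ 2 := (finrank_span_le _).trans Finset.card_le_two
  have hxS : (⟨x, hx⟩ : V₀) ∈ S := Submodule.subset_span (by simp)
  have hyS : (⟨y, hy⟩ : V₀) ∈ S := Submodule.subset_span (by simp)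
  obtain ⟨z₀, hz₀S⟩ : ∃ z₀ : V₀, z₀ ∉ S := by
    by_contra hc
    push Not at hc
    have h1 : S = ⊤ := eq_top_iff.2 fun v _ => hc v
    rw [h1, finrank_top] at hS
    omega
  obtain ⟨s, hs, hs0, hsx, hsy⟩ : ∃ s ∈ V₀, s ≠ 0 ∧ f s x = 0 ∧ f s y = 0 := by
    refine ⟨(z₀ : V) - (ζ * f z₀ y) • x + (ζ * f z₀ x) • y, ?_, ?_, ?_, ?_⟩
    · apply V₀.add_mem
      · apply V₀.sub_mem z₀.2
        exact V₀.smul_mem (⟨_, h.val z₀ z₀.2 y hy⟩ : F₀) hx
      · exact V₀.smul_mem (⟨_, h.val z₀ z₀.2 x hx⟩ : F₀) hy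
    · intro h0
      apply hz₀S
      have e : z₀ = (⟨_, h.val z₀ z₀.2 y hy⟩ : F₀) • (⟨x, hx⟩ : V₀) -
          (⟨_, h.val z₀ z₀.2 x hx⟩ : F₀) • (⟨y, hy⟩ : V₀) := by
        apply Subtype.ext
        change (z₀ : V) = (ζ * f z₀ y) • x - (ζ * f z₀ x) • y
        have h3 : (z₀ : V) - ((ζ * f z₀ y) • x - (ζ * f z₀ x) • y) = 0 := by
          rw [← h0]
          module
        exact sub_eq_zero.1 h3
      rw [e]
      exact S.sub_mem (S.smul_mem _ hxS) (S.smul_mem _ hyS)
    · rw [sympForm_add_left, sympForm_sub_left, sympForm_smul_left, sympForm_smul_left,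
        sympForm_self]
      linear_combination (f z₀ x) * hyx
    · rw [sympForm_add_left, sympForm_sub_left, sympForm_smul_left, sympForm_smul_left,
        sympForm_self]
      linear_combination -(f z₀ y) * hxy
  have hsv : f s v₂ = 0 := by
    rw [hv₂, sympForm_add_right, sympForm_smul_right, sympForm_smul_right, hsx, hsy, mul_zero,
      mul_zero, add_zero]
  have hvs : f v₂ s = 0 := form_eq_zero_comm.1 hsv
  -- the key claim
  have claim : ∀ p ∈ V₀, ∀ q ∈ V₀, f s p = 0 → f s q = 0 → ∀ c ∈ F₀,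
      TT ζ (s : V) (2 * c * (ζ * f p v₂) * (ζ * f v₂ q)) ∈ M := by
    intro p hp q hq hsp hsq c hc
    set a : F := ζ * f p v₂ with ha
    have h1 : SS ζ (s : V) p 0 ∈ M := hM _ (SS_mem_of_rat h hs hp hsp F₀.zero_mem)
    have h3 : SS ζ (s : V) p 0 • v₂ = v₂ + a • (s : V) := by
      rw [SS_smul hsp, hsv, mul_zero, zero_smul, add_zero]
    have h4 : TT ζ (v₂ + a • (s : V)) c ∈ M := by
      rw [← h3, ← conj_TT]
      exact M.mul_mem (M.mul_mem h1 (hu c hc)) (M.inv_mem h1)
    have h5 : TT ζ (v₂ + a • (s : V)) c * TT ζ v₂ (-c) =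
        SS ζ (s : V) ((-(c * a)) • v₂) (-(c * a ^ 2)) := by
      have h6 : f (s : V) ((-(c * a)) • v₂) = 0 := by
        rw [sympForm_smul_right, hsv, mul_zero]
      apply ext_smul
      intro v
      rw [mul_smul, TT_smul, TT_smul, SS_smul h6]
      simp only [sympForm_add_left, sympForm_add_right, sympForm_smul_left, sympForm_smul_right,
        sympForm_self, hvs, sympForm_swap v₂ v, sympForm_swap (s : V) v]
      module
    have h7 : SS ζ (s : V) ((-(c * a)) • v₂) (-(c * a ^ 2)) ∈ M := by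
      rw [← h5]
      exact M.mul_mem h4 (hu _ (F₀.neg_mem hc))
    have h8 : SS ζ (s : V) q 0 ∈ M := hM _ (SS_mem_of_rat h hs hq hsq F₀.zero_mem)
    have h6 : f (s : V) ((-(c * a)) • v₂) = 0 := by
      rw [sympForm_smul_right, hsv, mul_zero]
    have h9 := M.mul_mem (M.mul_mem h7 h8) (M.inv_mem (M.mul_mem h8 h7))
    have h10 : f (s : V) ((-(c * a)) • v₂ + q) = 0 := by
      rw [sympForm_add_right, h6, hsq, add_zero]
    have h11 : f (s : V) (q + (-(c * a)) • v₂) = 0 := by rw [add_comm]; exact h10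
    rw [SS_mul h6 hsq, SS_mul hsq h6, SS_inv h11, SS_mul h10 (form_neg_eq_zero h11),
      add_comm q, add_neg_cancel, SS_zero] at h9
    convert h9 using 2
    simp only [sympForm_smul_left, sympForm_smul_right, sympForm_neg_right, sympForm_self,
      sympForm_swap q v₂]
    ring
  have e1 : ζ * f y v₂ = -α := by
    rw [hv₂, sympForm_add_right, sympForm_smul_right, sympForm_smul_right, sympForm_self]
    linear_combination α * hyx
  have e2 : ζ * f v₂ y = α := by
    rw [hv₂, sympForm_add_left, sympForm_smul_left, sympForm_smul_left, sympForm_self]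
    linear_combination α * hxy
  have e3 : ζ * f v₂ x = -β := by
    rw [hv₂, sympForm_add_left, sympForm_smul_left, sympForm_smul_left, sympForm_self]
    linear_combination β * hyx
  have c1 := claim y hy y hy hsy hsy 1 F₀.one_mem
  have c2 := claim y hy x hx hsy hsx 1 F₀.one_mem
  rw [e1, e2] at c1
  rw [e1, e3] at c2
  have h2mem : (2 : F) ∈ F₀ := by
    have : (1 : F) + 1 ∈ F₀ := F₀.add_mem F₀.one_mem F₀.one_mem
    convert this using 1
    norm_num
  by_cases hα2 : 2 * 1 * -α * α ∈ F₀
  · refine ⟨s, hs, hs0, _, ?_, c2⟩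
    intro hmem
    apply hαβ
    have h3 : 2 * 1 * -α * -β / (2 * 1 * -α * α) ∈ F₀ := F₀.div_mem hmem hα2
    have h4 : β / α = -(2 * 1 * -α * -β / (2 * 1 * -α * α)) := by
      field_simp
    rw [h4]
    exact F₀.neg_mem h3
  · exact ⟨s, hs, hs0, _, hα2, c1⟩

/-- Odd characteristic. -/
theorem odd_step (h2 : (2 : F) ≠ 0) (h : RatStr F₀ ζ V₀) (hdim : 2 < Module.finrank F₀ V₀)
    {M : Subgroup G} (hM : ∀ g : G, (∀ v ∈ V₀, g • v ∈ V₀) → g ∈ M) {u : V}
    (hu : ∀ c ∈ F₀, TT ζ u c ∈ M) (hirr : ∀ (a : F), ∀ w ∈ V₀, u ≠ a • w) :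
    Goal ζ F₀ V₀ M := by
  classical
  have h2mem : (2 : F) ∈ F₀ := by
    have : (1 : F) + 1 ∈ F₀ := F₀.add_mem F₀.one_mem F₀.one_mem
    convert this using 1
    norm_num
  -- a rational hyperbolic pair with independent pairings
  obtain ⟨x, hx, y, hy, hxy, hind⟩ : ∃ x ∈ V₀, ∃ y ∈ V₀, ζ * f x y = 1 ∧
      (ζ * f u y) / (ζ * f u x) ∉ F₀ := by
    obtain ⟨x, hx, y, hy, hind⟩ := h.exists_indep hirr
    by_cases hxy : f x y = 0
    · have hx0 : x ≠ 0 := by
        rintro rfl
        rw [sympForm_zero_right, mul_zero, div_zero] at hind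
        exact hind F₀.zero_mem
      obtain ⟨z, -, hz⟩ := h.exists_dual (S := ⊥) (z := ⟨x, hx⟩) (by
        rw [Submodule.mem_bot]
        intro h0
        exact hx0 (congrArg Subtype.val h0))
      by_cases hz' : (ζ * f u (z : V)) / (ζ * f u x) ∈ F₀
      · refine ⟨x, hx, z + y, V₀.add_mem z.2 hy, ?_, ?_⟩
        · rw [sympForm_add_right, hxy, add_zero]
          exact hz
        · intro h3
          apply hind
          have h4 := F₀.sub_mem h3 hz'
          rw [← sub_div, sympForm_add_right] at h4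
          convert h4 using 2
          ring
      · exact ⟨x, hx, z, z.2, hz, hz'⟩
    · have hg : ζ * f x y ≠ 0 := mul_ne_zero h.ne hxy
      have hgm : (ζ * f x y)⁻¹ ∈ F₀ := F₀.inv_mem (h.val x hx y hy)
      refine ⟨x, hx, (ζ * f x y)⁻¹ • y, V₀.smul_mem (⟨_, hgm⟩ : F₀) hy, ?_, ?_⟩
      · rw [sympForm_smul_right]
        have e : ζ * ((ζ * f x y)⁻¹ * f x y) = (ζ * f x y)⁻¹ * (ζ * f x y) := by ring
        rw [e, inv_mul_cancel₀ hg]
      · intro h3
        apply hind
        have h4 := F₀.mul_mem (h.val x hx y hy) h3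
        convert h4 using 1
        rw [sympForm_smul_right]
        field_simp
  have hyx : ζ * f y x = -1 := by rw [sympForm_swap, mul_neg, hxy]
  set a : F := ζ * f u x with ha
  set b : F := ζ * f u y with hb
  have hind' : -a / b ∉ F₀ := by
    intro h3
    apply div_not_mem_symm hind
    have := F₀.neg_mem h3
    rwa [neg_div, neg_neg] at this
  -- the projection to the plane
  set w : V := b • x + (-a) • y with hw
  set w' : V := u - w with hw'
  have huw : u = w + w' := by rw [hw']; abel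
  have hw'x : f w' x = 0 := by
    have h3 : ζ * f w' x = 0 := by
      rw [hw', hw, sympForm_sub_left, sympForm_add_left, sympForm_smul_left, sympForm_smul_left,
        sympForm_self]
      linear_combination -ha + a * hyx
    exact (mul_eq_zero.1 h3).resolve_left h.ne
  have hw'y : f w' y = 0 := by
    have h3 : ζ * f w' y = 0 := by
      rw [hw', hw, sympForm_sub_left, sympForm_add_left, sympForm_smul_left, sympForm_smul_left,
        sympForm_self]
      linear_combination -hb - b * hxy
    exact (mul_eq_zero.1 h3).resolve_left h.ne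
  have hw'w : f w' w = 0 := by
    rw [hw, sympForm_add_right, sympForm_smul_right, sympForm_smul_right, hw'x, hw'y, mul_zero,
      mul_zero, add_zero]
  have hww' : f w w' = 0 := form_eq_zero_comm.1 hw'w
  by_cases hw'0 : w' = 0
  · apply odd_two h2 h hdim hM hx hy hxy hind'
    intro c hc
    rw [← hw]
    have : w = u := by rw [huw, hw'0, add_zero]
    rw [this]
    exact hu c hc
  -- the involution
  let T : V →ₗ[F] V := LinearMap.id - (2 : F) • (((ζ • (sympBilin m F).flip y).smulRight x) -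
    ((ζ • (sympBilin m F).flip x).smulRight y))
  have hT : ∀ v, T v = v - (2 : F) • ((ζ * f v y) • x - (ζ * f v x) • y) := fun v => rfl
  have hiso : ∀ v v', f (T v) (T v') = f v v' := by
    intro v v'
    have h3 : ζ * f (T v) (T v') = ζ * f v v' := by
      rw [hT, hT]
      simp only [sympForm_sub_left, sympForm_sub_right, sympForm_smul_left, sympForm_smul_right,
        sympForm_self, sympForm_swap x v', sympForm_swap y v', sympForm_swap y x]
      linear_combination (4 * ((ζ * f v x) * (ζ * f v' y) - (ζ * f v y) * (ζ * f v' x))) * hxy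
    exact mul_left_cancel₀ h.ne h3
  have hTM : ofIso T hiso ∈ M := by
    apply hM
    intro v hv
    rw [ofIso_smul, hT]
    apply V₀.sub_mem hv
    apply V₀.smul_mem (⟨2, h2mem⟩ : F₀)
    apply V₀.sub_mem
    · exact V₀.smul_mem (⟨_, h.val v hv y hy⟩ : F₀) hx
    · exact V₀.smul_mem (⟨_, h.val v hv x hx⟩ : F₀) hy
  have hTu : ofIso T hiso • u = w' - w := by
    rw [ofIso_smul, hT, ← ha, ← hb]
    have e : (b • x - a • y : V) = w := by rw [hw]; module
    rw [e, huw]
    module
  -- the Siegel elements `SS w (c w')`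
  have hSS : ∀ c ∈ F₀, SS ζ w (c • w') 0 ∈ M := by
    intro c hc
    obtain ⟨d, hd, rfl⟩ : ∃ d ∈ F₀, c = 2 * d :=
      ⟨c / 2, F₀.div_mem hc h2mem, by field_simp⟩
    have h3 := hu _ (F₀.neg_mem hd)
    have h4 : TT ζ (w' - w) d ∈ M := by
      rw [← hTu, ← conj_TT]
      exact M.mul_mem (M.mul_mem hTM (hu _ hd)) (M.inv_mem hTM)
    have h5 : TT ζ u (-d) * TT ζ (w' - w) d = SS ζ w ((2 * d) • w') 0 := by
      have h6 : f w ((2 * d) • w') = 0 := by rw [sympForm_smul_right, hww', mul_zero]
      apply ext_smul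
      intro v
      rw [mul_smul, TT_smul, TT_smul, SS_smul h6, huw]
      simp only [sympForm_add_left, sympForm_add_right, sympForm_sub_left, sympForm_sub_right,
        sympForm_smul_left, sympForm_self, hww', hw'w,
        sympForm_swap w v, sympForm_swap w' v]
      module
    rw [← h5]
    exact M.mul_mem h3 h4
  -- a rational vector orthogonal to the plane and not to `w'`
  obtain ⟨z₀, hz₀, hwz₀⟩ : ∃ z ∈ V₀, f w' z ≠ 0 := by
    by_contra hc
    push Not at hc
    exact hw'0 (h.nd w' hc)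
  obtain ⟨z, hz, hzx, hzy, hwz⟩ : ∃ z ∈ V₀, f z x = 0 ∧ f z y = 0 ∧ f w' z ≠ 0 := by
    refine ⟨z₀ - (ζ * f z₀ y) • x + (ζ * f z₀ x) • y, ?_, ?_, ?_, ?_⟩
    · apply V₀.add_mem
      · apply V₀.sub_mem hz₀
        exact V₀.smul_mem (⟨_, h.val z₀ hz₀ y hy⟩ : F₀) hx
      · exact V₀.smul_mem (⟨_, h.val z₀ hz₀ x hx⟩ : F₀) hy
    · rw [sympForm_add_left, sympForm_sub_left, sympForm_smul_left, sympForm_smul_left,
        sympForm_self]
      linear_combination (f z₀ x) * hyx
    · rw [sympForm_add_left, sympForm_sub_left, sympForm_smul_left, sympForm_smul_left,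
        sympForm_self]
      linear_combination -(f z₀ y) * hxy
    · rw [sympForm_add_right, sympForm_sub_right, sympForm_smul_right, sympForm_smul_right, hw'x,
        hw'y, mul_zero, mul_zero, sub_zero, add_zero]
      exact hwz₀
  set d : F := ζ * f w' z with hd
  have hd0 : d ≠ 0 := mul_ne_zero h.ne hwz
  have hzw : f z w = 0 := by
    rw [hw, sympForm_add_right, sympForm_smul_right, sympForm_smul_right, hzx, hzy, mul_zero,
      mul_zero, add_zero]
  have hwz' : f w z = 0 := form_eq_zero_comm.1 hzw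
  have hzw' : ζ * f z w' = -d := by rw [sympForm_swap, hd]; ring
  -- `SS w (± c d z) (c d^2)`
  have key : ∀ c ∈ F₀, TT ζ w (-(2 * c * d ^ 2)) ∈ M := by
    intro c hc
    have hTz : TT ζ z c ∈ M := hM _ (TT_mem_of_rat h hz hc)
    have e1 : TT ζ z c • w = w := by
      rw [TT_smul, hwz', mul_zero, mul_zero, zero_smul, add_zero]
    have e2 : TT ζ z c • w' = w' + (c * d) • z := by rw [TT_smul]
    have h1 := hSS 1 F₀.one_mem
    rw [one_smul] at h1
    have h1' : SS ζ w (w' + (c * d) • z) 0 ∈ M := by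
      have h3 := M.mul_mem (M.mul_mem hTz h1) (M.inv_mem hTz)
      rw [conj_SS _ hww', e1, e2] at h3
      exact h3
    have hw1 : f w (w' + (c * d) • z) = 0 := by
      rw [sympForm_add_right, hww', sympForm_smul_right, hwz', mul_zero, add_zero]
    have hw2 : f w (-(w' + (c * d) • z)) = 0 := by rw [sympForm_neg_right, hw1, neg_zero]
    have hw3 : f w (-w') = 0 := by rw [sympForm_neg_right, hww', neg_zero]
    have h3 := M.mul_mem h1' (M.inv_mem h1)
    have h4 := M.mul_mem (M.inv_mem h1') h1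
    rw [SS_inv hww', SS_mul hw1 hw3] at h3
    rw [SS_inv hw1, SS_mul hw2 hww'] at h4
    have h5 := M.mul_mem h3 h4
    rw [SS_mul (by rw [sympForm_add_right, hw1, hw3, add_zero])
      (by rw [sympForm_add_right, hw2, hww', add_zero])] at h5
    have e3 : w' + (c * d) • z + -w' + (-(w' + (c * d) • z) + w') = 0 := by module
    rw [e3, SS_zero] at h5
    convert h5 using 2
    simp only [sympForm_add_left, sympForm_add_right, sympForm_neg_left, sympForm_neg_right,
      sympForm_smul_left, sympForm_smul_right, sympForm_self, sympForm_swap w' z]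
    linear_combination (-(2 * c * d)) * hzw'
  have hind2 : (d * -a) / (d * b) ∉ F₀ := by
    rw [mul_div_mul_left _ _ hd0]
    exact hind'
  apply odd_two h2 h hdim hM hx hy hxy hind2
  intro c hc
  have e : (d * b) • x + (d * -a) • y = d • w := by rw [hw]; module
  rw [e, TT_smul_vec]
  have h3 := key (-(c / 2)) (F₀.neg_mem (F₀.div_mem hc h2mem))
  convert h3 using 2
  field_simp

omit [Finite F] in
/-- `SS x (c y)` from transvections. -/
theorem SS_of_TT {M : Subgroup G} {x y : V} (hxy : f x y = 0) {c : F}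
    (hx : TT ζ x c ∈ M) (hy : TT ζ y c ∈ M) (hxy' : TT ζ (x + y) c ∈ M) :
    SS ζ x (c • y) 0 ∈ M := by
  have h1 := M.mul_mem (M.mul_mem hx hy) (M.inv_mem hxy')
  have e : TT ζ x c * TT ζ y c * (TT ζ (x + y) c)⁻¹ = SS ζ x (c • y) 0 := by
    rw [TT_inv]
    apply ext_smul
    intro v
    rw [mul_smul, mul_smul, TT_smul, TT_smul, TT_smul,
      SS_smul (by rw [sympForm_smul_right, hxy, mul_zero])]
    simp only [sympForm_add_left, sympForm_add_right, sympForm_smul_left, sympForm_self, hxy,
      form_eq_zero_comm.1 hxy, sympForm_swap x v, sympForm_swap y v]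
    module
  rwa [e] at h1

/-- The ring of scalars of the short Siegel elements (odd characteristic). -/
def BRing (h2 : (2 : F) ≠ 0) (h : RatStr F₀ ζ V₀) (hdim : 2 < Module.finrank F₀ V₀)
    (M : Subgroup (Matrix.symplecticGroup (Fin m) F))
    (hM : ∀ g : Matrix.symplecticGroup (Fin m) F, (∀ v ∈ V₀, g • v ∈ V₀) → g ∈ M) :
    Subalgebra F₀ F where
  carrier := {b | ∀ x ∈ V₀, ∀ y ∈ V₀, f x y = 0 → SS ζ x (b • y) 0 ∈ M}
  mul_mem' {b b'} hb hb' := by
    classical
    have h2mem : (2 : F) ∈ F₀ := by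
      have : (1 : F) + 1 ∈ F₀ := F₀.add_mem F₀.one_mem F₀.one_mem
      convert this using 1
      norm_num
    -- transvections with parameter `2 b b'`
    have hTT : ∀ x ∈ V₀, TT ζ x (2 * (b * b')) ∈ M := by
      intro x hx
      have h1 := finrank_span_le (K := F₀) ({⟨x, hx⟩} : Finset V₀)
      rw [Finset.card_singleton] at h1
      obtain ⟨z, hzS, hzo⟩ := h.exists_orth (S := Submodule.span F₀
          ((({⟨x, hx⟩} : Finset V₀)) : Set V₀)) (by omega)
      obtain ⟨p, hpo, hzp⟩ := h.exists_dual hzS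
      have hxS : (⟨x, hx⟩ : V₀) ∈ Submodule.span F₀
          ((({⟨x, hx⟩} : Finset V₀)) : Set V₀) := Submodule.subset_span (by simp)
      have hxz : f x (z : V) = 0 := hzo _ hxS
      have hxp : f x (p : V) = 0 := hpo _ hxS
      have hpz : ζ * f (p : V) (z : V) = -1 := by rw [sympForm_swap, mul_neg, hzp]
      have h3 := hb x hx z z.2 hxz
      have h4 := hb' x hx p p.2 hxp
      have hxbz : f x (b • (z : V)) = 0 := by rw [sympForm_smul_right, hxz, mul_zero]
      have hxbp : f x (b' • (p : V)) = 0 := by rw [sympForm_smul_right, hxp, mul_zero]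
      have hsum : f x (b • (z : V) + b' • (p : V)) = 0 := by
        rw [sympForm_add_right, hxbz, hxbp, add_zero]
      have h5 := M.mul_mem (M.inv_mem (M.mul_mem h3 h4)) (M.mul_mem h4 h3)
      rw [SS_mul hxbz hxbp, SS_mul hxbp hxbz, SS_inv hsum, add_comm (b' • (p : V)),
        SS_mul (by rw [sympForm_neg_right, hsum, neg_zero]) hsum, neg_add_cancel, SS_zero] at h5
      convert h5 using 2
      simp only [sympForm_add_left, sympForm_add_right, sympForm_neg_left,
        sympForm_smul_left, sympForm_smul_right, sympForm_self, sympForm_swap (p : V) (z : V)]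
      linear_combination (-(2 * b * b')) * hzp
    intro x hx y hy hxy
    have hhalf : (2 : F)⁻¹ ∈ F₀ := F₀.inv_mem h2mem
    have hy' : (2 : F)⁻¹ • y ∈ V₀ := V₀.smul_mem (⟨_, hhalf⟩ : F₀) hy
    have hxy' : f x ((2 : F)⁻¹ • y) = 0 := by rw [sympForm_smul_right, hxy, mul_zero]
    have h1 := SS_of_TT hxy' (hTT x hx) (hTT _ hy') (hTT _ (V₀.add_mem hx hy'))
    have e : (2 * (b * b')) • ((2 : F)⁻¹ • y) = (b * b') • y := by
      rw [smul_smul]
      congr 1
      field_simp
    rwa [e] at h1
  add_mem' {b b'} hb hb' := by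
    intro x hx y hy hxy
    have h1 := M.mul_mem (hb x hx y hy hxy) (hb' x hx y hy hxy)
    rw [SS_mul (by rw [sympForm_smul_right, hxy, mul_zero])
      (by rw [sympForm_smul_right, hxy, mul_zero]), ← add_smul] at h1
    convert h1 using 2
    rw [sympForm_smul_left, sympForm_smul_right, sympForm_self]
    ring
  algebraMap_mem' c := by
    intro x hx y hy hxy
    apply hM
    have h1 : (algebraMap F₀ F c) • y ∈ V₀ := V₀.smul_mem c hy
    exact SS_mem_of_rat h hx h1 (by rw [sympForm_smul_right, hxy, mul_zero]) F₀.zero_mem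

omit [Finite F] in
/-- **An irrational transvection with rational centre generates everything with the rational
isometries** (odd characteristic). -/
theorem full_of_goal [Fintype F] (h2 : (2 : F) ≠ 0) (h : RatStr F₀ ζ V₀)
    (hdim : 2 < Module.finrank F₀ V₀)
    {r : ℕ} (hr : r.Prime) (hcard : Fintype.card F = Nat.card F₀ ^ r) {M : Subgroup G}
    (hM : ∀ g : G, (∀ v ∈ V₀, g • v ∈ V₀) → g ∈ M) (hg : Goal ζ F₀ V₀ M) :
    ∀ v : V, Full M v := by
  classical
  obtain ⟨s, hs, hs0, c₁, hc₁, hsc⟩ := hg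
  -- the transvections with parameter `c₁` at all rational vectors
  have hall : ∀ x ∈ V₀, TT ζ x c₁ ∈ M := by
    intro x hx
    by_cases hx0 : x = 0
    · subst hx0
      have : TT ζ (0 : V) c₁ = 1 := by
        apply ext_smul
        intro v
        rw [TT_smul, smul_zero, add_zero, one_smul]
      rw [this]
      exact M.one_mem
    · obtain ⟨g, hg, hgs⟩ := rat_transitive h hM hs hx hs0 hx0
      rw [← hgs, ← conj_TT]
      exact M.mul_mem (M.mul_mem hg hsc) (M.inv_mem hg)
  -- the ring is everything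
  have hc₁B : c₁ ∈ BRing h2 h hdim M hM := by
    intro x hx y hy hxy
    exact SS_of_TT hxy (hall x hx) (hall y hy) (hall _ (V₀.add_mem hx hy))
  have hprime : (Module.finrank F₀ F).Prime := by
    have h1 : Fintype.card F = Fintype.card F₀ ^ Module.finrank F₀ F :=
      Module.card_eq_pow_finrank
    rw [hcard, Nat.card_eq_fintype_card] at h1
    have h3 : 1 < Fintype.card F₀ := Fintype.one_lt_card
    have h4 := Nat.pow_right_injective h3 h1
    rw [← h4]
    exact hr
  have htop : BRing h2 h hdim M hM = ⊤ := by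
    have hso := Subalgebra.isSimpleOrder_of_finrank_prime F₀ F hprime
    rcases hso.eq_bot_or_eq_top (BRing h2 h hdim M hM) with h1 | h1
    · exfalso
      rw [h1, Algebra.mem_bot] at hc₁B
      obtain ⟨c, hc⟩ := hc₁B
      apply hc₁
      rw [← hc]
      exact c.2
    · exact h1
  have hB : ∀ b : F, ∀ x ∈ V₀, ∀ y ∈ V₀, f x y = 0 → SS ζ x (b • y) 0 ∈ M := by
    intro b
    have : b ∈ BRing h2 h hdim M hM := by rw [htop]; trivial
    exact this
  have hTT : ∀ x ∈ V₀, ∀ c : F, TT ζ x c ∈ M := by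
    intro x hx c
    have h3 := hB (-(c / 2)) x hx x hx (sympForm_self _)
    have e : SS ζ x ((-(c / 2)) • x) 0 = TT ζ x c := by
      apply ext_smul
      intro v
      rw [SS_smul (by rw [sympForm_smul_right, sympForm_self, mul_zero]), TT_smul]
      simp only [sympForm_smul_left, sympForm_swap x v]
      have e2 : c = 2 * (c / 2) := by field_simp
      set d : F := c / 2 with hd
      rw [e2]
      module
    rwa [e] at h3
  have hfull : ∀ x ∈ V₀, Full M x := by
    intro x hx c
    have h3 := hTT x hx (c / ζ)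
    rw [TT, mul_div_cancel₀ _ h.ne] at h3
    exact h3
  -- the whole space
  have hs1 : ∃ s : F, s ≠ 0 ∧ s ≠ -1 := by
    refine ⟨c₁, ?_, ?_⟩
    · rintro rfl
      exact hc₁ F₀.zero_mem
    · rintro rfl
      exact hc₁ (F₀.neg_mem F₀.one_mem)
  apply full_of_connected hs1 (V₀ : Set V) hfull
  · intro v hv
    by_contra hc
    push Not at hc
    exact hv (h.nd v hc)
  · intro W hW hW'
    -- a rational vector outside `W`
    obtain ⟨x₁, hx₁, hx₁W⟩ : ∃ x ∈ V₀, x ∉ W := by
      obtain ⟨v, hv⟩ : ∃ v, v ∉ W := by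
        by_contra hc
        push Not at hc
        exact hW' (eq_top_iff.2 fun v _ => hc v)
      obtain ⟨φ, hφv, hφW⟩ := Submodule.exists_le_ker_of_notMem hv
      have hnd : LinearMap.BilinForm.Nondegenerate (sympBilin m F) :=
        sympBilin_nondegenerate
      let a := (LinearMap.BilinForm.toDual (sympBilin m F) hnd).symm φ
      have ha : ∀ x, f a x = φ x := fun x =>
        LinearMap.BilinForm.apply_toDual_symm_apply (B := sympBilin m F) (hB := hnd) φ x
      have ha0 : a ≠ 0 := by
        intro h0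
        apply hφv
        rw [← ha, h0, sympForm_zero_left]
      by_contra hc
      push Not at hc
      apply ha0
      apply h.nd
      intro x hx
      rw [ha]
      exact hφW (hc x hx)
    obtain ⟨w, hw, hw0⟩ := Submodule.exists_mem_ne_zero_of_ne_bot hW
    obtain ⟨x₂, hx₂, hwx₂⟩ : ∃ x ∈ V₀, f w x ≠ 0 := by
      by_contra hc
      push Not at hc
      exact hw0 (h.nd w hc)
    by_cases h1 : x₂ ∈ W
    · by_cases h3 : ∃ w' ∈ W, f w' x₁ ≠ 0
      · exact ⟨x₁, hx₁, hx₁W, h3⟩
      · push Not at h3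
        refine ⟨x₁ + x₂, V₀.add_mem hx₁ hx₂, ?_, w, hw, ?_⟩
        · intro h4
          apply hx₁W
          have := W.sub_mem h4 h1
          rwa [add_sub_cancel_right] at this
        · rw [sympForm_add_right, h3 w hw, zero_add]
          exact hwx₂
    · exact ⟨x₂, hx₂, h1, w, hw, hwx₂⟩

end Cfsg.Agent.H97.SpSubTwo
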